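import Groth.Agent.H18Et.LC.Pull
import Groth.Prelude.Def_EtMod2
import Groth.Prelude.Def_EtRestW

/-!
# Locally constant sheaves in terms of germs
-/

set_option backward.isDefEq.respectTransparency false
set_option backward.isDefEq.respectTransparency.types false

universe u

open CategoryTheory CategoryTheory.Limits AlgebraicGeometry Opposite

namespace Groth.Agent.H18Et.LC

open scoped Groth.Agent.H18Et

instance hasProducts_moduleCat (Λ : Type (u + 1)) [CommRing Λ] : HasProducts.{u} (ModuleCat.{u + 1} Λ) :=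
  fun J => (hasLimitsOfSizeShrink.{u, u, u + 1, u + 1} (ModuleCat.{u + 1} Λ)).has_limits_of_shape _

instance forget_moduleCat_preservesFiltered (Λ : Type (u + 1)) [CommRing Λ] :
    PreservesFilteredColimitsOfSize.{u, u} (forget (ModuleCat.{u + 1} Λ)) :=
  preservesFilteredColimitsOfSize_shrink.{u, u + 1, u, u + 1} _

variable {X Y : Scheme.{u}}

/-- A finite abelian group is isomorphic to the lift of a small one. -/
theorem exists_small_iso (M : AddCommGrpCat.{u + 1}) [Finite M] :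
    ∃ (M₀ : Type) (_ : AddCommGroup M₀) (_ : Finite M₀),
      Nonempty (AddCommGrpCat.of (ULift.{u + 1} M₀) ≅ M) := by
  refine ⟨Shrink.{0} M, inferInstance, Finite.of_equiv M (equivShrink.{0} M), ⟨?_⟩⟩
  exact ((AddEquiv.ulift : ULift.{u + 1} (Shrink.{0} M) ≃+ Shrink.{0} M).trans Shrink.addEquiv.{0}).toAddCommGrpIso

theorem isFiniteLocallyConstant_iff (F : EtCoh.Ab X) :
    EtCoh.IsFiniteLocallyConstant F ↔
      ∃ (ι : Type u) (U : ι → X.Etale), EtCoh.Covers U ∧ ∀ i, ∃ (M : AddCommGrpCat.{u + 1}) (_ : Finite M)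
        (c : M ⟶ F.obj.obj (op (U i))), IsConstOn F (U i) c := by
  constructor
  · rintro ⟨ι, U, hU, h⟩
    refine ⟨ι, U, hU, fun i => ?_⟩
    obtain ⟨M, _, _, ⟨e⟩⟩ := h i
    exact ⟨_, inferInstanceAs (Finite (ULift.{u + 1} M)), exists_isConstOn_of_iso e⟩
  · rintro ⟨ι, U, hU, h⟩
    refine ⟨ι, U, hU, fun i => ?_⟩
    obtain ⟨M, hM, c, hc⟩ := h i
    obtain ⟨M₀, i₁, i₂, ⟨e⟩⟩ := exists_small_iso M
    exact ⟨M₀, i₁, i₂, nonempty_iso_of_isConstOn (hc.precomp e.hom)⟩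

theorem isLocallyConstant_iff (F : EtCoh.Ab X) :
    EtRest.IsLocallyConstant F ↔
      ∃ (ι : Type u) (U : ι → X.Etale), EtCoh.Covers U ∧ ∀ i, ∃ (M : AddCommGrpCat.{u + 1})
        (c : M ⟶ F.obj.obj (op (U i))), IsConstOn F (U i) c := by
  constructor
  · rintro ⟨ι, U, hU, h⟩
    refine ⟨ι, U, hU, fun i => ?_⟩
    obtain ⟨M, _, ⟨e⟩⟩ := h i
    exact ⟨_, exists_isConstOn_of_iso e⟩
  · rintro ⟨ι, U, hU, h⟩
    refine ⟨ι, U, hU, fun i => ?_⟩
    obtain ⟨M, c, hc⟩ := h i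
    exact ⟨M, inferInstance, nonempty_iso_of_isConstOn hc⟩

theorem isFTLocConst_iff (Λ : Type (u + 1)) [CommRing Λ] (F : EtModW.Mod Λ X) :
    EtModW.IsFTLocConst Λ F ↔
      ∃ (ι : Type u) (U : ι → X.Etale), EtCoh.Covers U ∧ ∀ i, ∃ (M : ModuleCat.{u + 1} Λ)
        (_ : Module.Finite Λ M) (c : M ⟶ F.obj.obj (op (U i))), IsConstOn F (U i) c := by
  constructor
  · rintro ⟨ι, U, hU, h⟩
    refine ⟨ι, U, hU, fun i => ?_⟩
    obtain ⟨M, _, _, hM, ⟨e⟩⟩ := h i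
    exact ⟨ModuleCat.of Λ M, hM, exists_isConstOn_of_iso e⟩
  · rintro ⟨ι, U, hU, h⟩
    refine ⟨ι, U, hU, fun i => ?_⟩
    obtain ⟨M, hM, c, hc⟩ := h i
    exact ⟨M, inferInstance, inferInstance, hM, nonempty_iso_of_isConstOn hc⟩

theorem isFiniteLocallyConstant_pull (f : X ⟶ Y) {G : EtCoh.Ab Y}
    (h : EtCoh.IsFiniteLocallyConstant G) : EtCoh.IsFiniteLocallyConstant ((EtCoh.pull f).obj G) := by
  obtain ⟨ι, U, hU, h⟩ := (isFiniteLocallyConstant_iff G).1 h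
  refine (isFiniteLocallyConstant_iff _).2 ⟨ι, _, covers_bc f hU, fun i => ?_⟩
  obtain ⟨M, hM, c, hc⟩ := h i
  exact ⟨M, hM, _, hc.pull f⟩

theorem isLocallyConstant_pull (f : X ⟶ Y) {G : EtCoh.Ab Y}
    (h : EtRest.IsLocallyConstant G) : EtRest.IsLocallyConstant ((EtCoh.pull f).obj G) := by
  obtain ⟨ι, U, hU, h⟩ := (isLocallyConstant_iff G).1 h
  refine (isLocallyConstant_iff _).2 ⟨ι, _, covers_bc f hU, fun i => ?_⟩
  obtain ⟨M, c, hc⟩ := h i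
  exact ⟨M, _, hc.pull f⟩

theorem isFTLocConst_pull (Λ : Type (u + 1)) [CommRing Λ] (f : X ⟶ Y) {G : EtModW.Mod Λ Y}
    (h : EtModW.IsFTLocConst Λ G) : EtModW.IsFTLocConst Λ ((EtModW.pull Λ f).obj G) := by
  obtain ⟨ι, U, hU, h⟩ := (isFTLocConst_iff Λ G).1 h
  refine (isFTLocConst_iff Λ _).2 ⟨ι, _, covers_bc f hU, fun i => ?_⟩
  obtain ⟨M, hM, c, hc⟩ := h i
  exact ⟨M, hM, _, hc.pull f⟩

theorem isFiniteLocallyConstant_of_iso {F G : EtCoh.Ab X} (e : F ≅ G)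
    (h : EtCoh.IsFiniteLocallyConstant F) : EtCoh.IsFiniteLocallyConstant G := by
  obtain ⟨ι, U, hU, h⟩ := (isFiniteLocallyConstant_iff F).1 h
  refine (isFiniteLocallyConstant_iff _).2 ⟨ι, U, hU, fun i => ?_⟩
  obtain ⟨M, hM, c, hc⟩ := h i
  exact ⟨M, hM, _, hc.postcomp e.hom⟩

theorem isFTLocConst_of_iso (Λ : Type (u + 1)) [CommRing Λ] {F G : EtModW.Mod Λ X} (e : F ≅ G)
    (h : EtModW.IsFTLocConst Λ F) : EtModW.IsFTLocConst Λ G := by
  obtain ⟨ι, U, hU, h⟩ := (isFTLocConst_iff Λ F).1 h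
  refine (isFTLocConst_iff Λ _).2 ⟨ι, U, hU, fun i => ?_⟩
  obtain ⟨M, hM, c, hc⟩ := h i
  exact ⟨M, hM, _, hc.postcomp e.hom⟩

end Groth.Agent.H18Et.LC
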