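import Groth.Agent.H18Et.LC.Wrap
import Mathlib.Algebra.Module.FinitePresentation

/-!
# Homomorphisms into stalks spread out to neighbourhoods
-/

set_option backward.isDefEq.respectTransparency false
set_option backward.isDefEq.respectTransparency.types false

universe u

open CategoryTheory CategoryTheory.Limits AlgebraicGeometry Opposite

namespace Groth.Agent.H18Et.LC

open scoped Groth.Agent.H18Et

variable {X : Scheme.{u}} {Ω : Type u} [Field Ω] [IsSepClosed Ω]
  (ξ : Spec (CommRingCat.of Ω) ⟶ X)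

set_option linter.unusedSectionVars false

theorem exists_common {U V : X.Etale} (x : (Scheme.pointSmallEtale ξ).fiber.obj U)
    (y : (Scheme.pointSmallEtale ξ).fiber.obj V) :
    ∃ (W : X.Etale) (a : W ⟶ U) (b : W ⟶ V) (w : (Scheme.pointSmallEtale ξ).fiber.obj W),
      (Scheme.pointSmallEtale ξ).fiber.map a w = x ∧ (Scheme.pointSmallEtale ξ).fiber.map b w = y := by
  obtain ⟨⟨W, w⟩, ⟨a, ha⟩, ⟨b, hb⟩, -⟩ := IsCofilteredOrEmpty.cone_objs
    (C := (Scheme.pointSmallEtale ξ).fiber.Elements) ⟨U, x⟩ ⟨V, y⟩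
  exact ⟨W, a, b, w, ha, hb⟩

/-- Two refinements of an element of a cofiltered functor have a common refinement. -/
theorem exists_common_refinement {C : Type*} [Category C] (F : C ⥤ Type u)
    [IsCofilteredOrEmpty F.Elements] {U V₁ V₂ : C} (g₁ : V₁ ⟶ U) (g₂ : V₂ ⟶ U)
    (z₁ : F.obj V₁) (z₂ : F.obj V₂) (e : F.map g₁ z₁ = F.map g₂ z₂) :
    ∃ (W : C) (a : W ⟶ V₁) (b : W ⟶ V₂) (w : F.obj W),
      F.map a w = z₁ ∧ F.map b w = z₂ ∧ a ≫ g₁ = b ≫ g₂ := by
  obtain ⟨⟨W, w⟩, ⟨a, ha⟩, ⟨b, hb⟩, -⟩ := IsCofilteredOrEmpty.cone_objs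
    (C := F.Elements) ⟨V₁, z₁⟩ ⟨V₂, z₂⟩
  have h1 : F.map (a ≫ g₁) w = F.map g₁ z₁ := by simp [ha]
  have h2 : F.map (b ≫ g₂) w = F.map g₁ z₁ := by simp [hb, e]
  obtain ⟨⟨W', w'⟩, ⟨q, hq⟩, hqe⟩ := IsCofilteredOrEmpty.cone_maps
    (C := F.Elements) (X := ⟨W, w⟩) (Y := ⟨U, F.map g₁ z₁⟩) (CategoryOfElements.homMk _ _ (a ≫ g₁) h1)
    (CategoryOfElements.homMk _ _ (b ≫ g₂) h2)
  refine ⟨W', q ≫ a, q ≫ b, w', ?_, ?_, ?_⟩
  · simp at hq ⊢; rw [hq, ha]
  · simp at hq ⊢; rw [hq, hb]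
  · simpa [Category.assoc] using congrArg Subtype.val hqe

/-- Finitely many monotone conditions that hold on some neighbourhood hold on a common one. -/
theorem exists_nbhd_forall {U : X.Etale} (x : (Scheme.pointSmallEtale ξ).fiber.obj U) {ι : Type*}
    (s : Finset ι) (P : ι → ∀ (V : X.Etale), (V ⟶ U) → (Scheme.pointSmallEtale ξ).fiber.obj V → Prop)
    (hmono : ∀ i (V : X.Etale) (g : V ⟶ U) (W : X.Etale) (k : W ⟶ V)
      (w : (Scheme.pointSmallEtale ξ).fiber.obj W), P i V g ((Scheme.pointSmallEtale ξ).fiber.map k w) →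
        P i W (k ≫ g) w)
    (h : ∀ i ∈ s, ∃ (V : X.Etale) (g : V ⟶ U) (z : (Scheme.pointSmallEtale ξ).fiber.obj V),
      (Scheme.pointSmallEtale ξ).fiber.map g z = x ∧ P i V g z) :
    ∃ (V : X.Etale) (g : V ⟶ U) (z : (Scheme.pointSmallEtale ξ).fiber.obj V),
      (Scheme.pointSmallEtale ξ).fiber.map g z = x ∧ ∀ i ∈ s, P i V g z := by
  classical
  induction s using Finset.induction_on with
  | empty => exact ⟨U, 𝟙 U, x, ConcreteCategory.congr_hom
      ((Scheme.pointSmallEtale ξ).fiber.map_id U) x, fun i hi => absurd hi (Finset.notMem_empty i)⟩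
  | insert a s ha ih =>
    obtain ⟨V₁, g₁, z₁, hz₁, h₁⟩ := h a (Finset.mem_insert_self a s)
    obtain ⟨V₂, g₂, z₂, hz₂, h₂⟩ := ih fun i hi => h i (Finset.mem_insert_of_mem hi)
    obtain ⟨W, k₁, k₂, w, e₁, e₂, e⟩ := exists_common_refinement (Scheme.pointSmallEtale ξ).fiber
      g₁ g₂ z₁ z₂ (hz₁.trans hz₂.symm)
    refine ⟨W, k₁ ≫ g₁, w, ?_, fun i hi => ?_⟩
    · exact (ConcreteCategory.congr_hom ((Scheme.pointSmallEtale ξ).fiber.map_comp k₁ g₁) w).trans
        ((ConcreteCategory.comp_apply _ _ _).trans ((congrArg _ e₁).trans hz₁))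
    · rcases Finset.mem_insert.1 hi with rfl | hi
      · exact hmono _ _ _ _ _ _ (Eq.mpr (congrArg (fun z => P i V₁ g₁ z) e₁) h₁)
      · rw [e]
        exact hmono _ _ _ _ _ _ (Eq.mpr (congrArg (fun z => P i V₂ g₂ z) e₂) (h₂ i hi))

section Generic

variable {A : Type (u + 2)} [Category.{u + 1} A] [HasColimitsOfSize.{u, u} A]
  {FA : A → A → Type*} {CA : A → Type (u + 1)} [∀ P Q, FunLike (FA P Q) (CA P) (CA Q)]
  [hA : ConcreteCategory.{u + 1} A FA] [PreservesFilteredColimitsOfSize.{u, u} (CategoryTheory.forget A)]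
  [X.smallEtaleTopology.HasSheafCompose (CategoryTheory.forget A)]

/-- Morphisms out of `M` are determined by their values on finitely many elements. -/
def FG (M : A) : Prop :=
  ∃ s : Finset (ToType M), ∀ ⦃N : A⦄ (a b : M ⟶ N), (∀ m ∈ s, a m = b m) → a = b

theorem exists_hom_eq {M : A} (hM : FG M) {F : Sheaf X.smallEtaleTopology A} {U : X.Etale}
    (x : (Scheme.pointSmallEtale ξ).fiber.obj U) (a b : M ⟶ F.obj.obj (op U))
    (e : a ≫ germ ξ F U x = b ≫ germ ξ F U x) :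
    ∃ (V : X.Etale) (g : V ⟶ U) (z : (Scheme.pointSmallEtale ξ).fiber.obj V),
      (Scheme.pointSmallEtale ξ).fiber.map g z = x ∧ a ≫ F.obj.map g.op = b ≫ F.obj.map g.op := by
  obtain ⟨s, hs⟩ := hM
  obtain ⟨V, g, z, hz, h⟩ := exists_nbhd_forall ξ x s
    (fun m V g _ => F.obj.map g.op (a m) = F.obj.map g.op (b m)) (fun m V g W k w h => by
      rw [op_comp, Functor.map_comp]
      exact (ConcreteCategory.comp_apply _ _ _).trans
        ((congrArg _ h).trans (ConcreteCategory.comp_apply _ _ _).symm)) fun m _ => by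
    have := ConcreteCategory.congr_hom e m
    rw [ConcreteCategory.comp_apply, ConcreteCategory.comp_apply] at this
    exact (germ_eq_iff ξ F U x _ _).1 this
  refine ⟨V, g, z, hz, hs _ _ fun m hm => ?_⟩
  rw [ConcreteCategory.comp_apply, ConcreteCategory.comp_apply]
  exact h m hm

/-- A map of sheaves is, near a point, induced by a map of the values. -/
theorem exists_local_hom {F G : Sheaf X.smallEtaleTopology A} (φ : F ⟶ G) {M N : A} (hM : FG M)
    {U U' : X.Etale} {c : M ⟶ F.obj.obj (op U)} (hc : IsConstOn F U c)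
    {d : N ⟶ G.obj.obj (op U')} (hd : IsConstOn G U' d)
    (x : (Scheme.pointSmallEtale ξ).fiber.obj U) (y : (Scheme.pointSmallEtale ξ).fiber.obj U') :
    ∃ (V : X.Etale) (_ : (Scheme.pointSmallEtale ξ).fiber.obj V) (c' : M ⟶ F.obj.obj (op V))
      (d' : N ⟶ G.obj.obj (op V)) (h : M ⟶ N),
      IsConstOn F V c' ∧ IsConstOn G V d' ∧ c' ≫ φ.hom.app (op V) = h ≫ d' := by
  obtain ⟨W, a, b, w, ha, hb⟩ := exists_common ξ x y
  have h1 := hc.res a
  have h2 := hd.res b
  haveI := h2.isIso ξ w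
  let h : M ⟶ N := (c ≫ F.obj.map a.op) ≫ φ.hom.app (op W) ≫ germ ξ G W w ≫
    inv ((d ≫ G.obj.map b.op) ≫ germ ξ G W w)
  obtain ⟨V, g, z, hz, he⟩ := exists_hom_eq ξ hM w ((c ≫ F.obj.map a.op) ≫ φ.hom.app (op W))
    (h ≫ d ≫ G.obj.map b.op) (by
      simp only [h, Category.assoc, IsIso.inv_hom_id, Category.comp_id])
  refine ⟨V, z, _, _, h, h1.res g, h2.res g, ?_⟩
  simp only [Category.assoc] at he ⊢
  rw [φ.hom.naturality, he]

end Generic

theorem fg_of_finite (M : AddCommGrpCat.{u + 1}) [Finite M] : FG M := by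
  letI := Fintype.ofFinite M
  exact ⟨Finset.univ, fun N a b h => AddCommGrpCat.ext fun m => h m (Finset.mem_univ m)⟩

theorem fg_of_moduleFinite (Λ : Type (u + 1)) [CommRing Λ] (M : ModuleCat.{u + 1} Λ) [hM : Module.Finite Λ M] :
    FG M := by
  obtain ⟨s, hs⟩ := hM.fg_top
  refine ⟨s, fun N a b h => ModuleCat.hom_ext (LinearMap.ext_on hs fun m hm => h m hm)⟩

theorem exists_sections {A : Type (u + 2)} [Category.{u + 1} A] [HasColimitsOfSize.{u, u} A]
    {FA : A → A → Type*} {CA : A → Type (u + 1)} [∀ P Q, FunLike (FA P Q) (CA P) (CA Q)]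
    [hA : ConcreteCategory.{u + 1} A FA]
    [PreservesFilteredColimitsOfSize.{u, u} (CategoryTheory.forget A)]
    [X.smallEtaleTopology.HasSheafCompose (CategoryTheory.forget A)]
    (F : Sheaf X.smallEtaleTopology A) {U : X.Etale} (x : (Scheme.pointSmallEtale ξ).fiber.obj U)
    {ι : Type*} [Finite ι] (p : ι → ToType ((Scheme.pointSmallEtale ξ).sheafFiber.obj F)) :
    ∃ (V : X.Etale) (g : V ⟶ U) (z : (Scheme.pointSmallEtale ξ).fiber.obj V),
      (Scheme.pointSmallEtale ξ).fiber.map g z = x ∧ ∃ s : ι → ToType (F.obj.obj (op V)),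
        ∀ i, germ ξ F V z (s i) = p i := by
  letI := Fintype.ofFinite ι
  obtain ⟨V, g, z, hz, h⟩ := exists_nbhd_forall ξ x Finset.univ
    (fun i V g z => ∃ s, germ ξ F V z s = p i)
    (fun i V g W k w ⟨s, hs⟩ =>
      ⟨F.obj.map k.op s, ((Scheme.pointSmallEtale ξ).toPresheafFiber_w_apply k w F.obj s).trans hs⟩)
    fun i _ => by
      obtain ⟨V, y, s, hs⟩ := germ_surjective ξ F (p i)
      obtain ⟨W, a, b, w, ha, hb⟩ := exists_common ξ x y
      refine ⟨W, a, w, ha, F.obj.map b.op s, ?_⟩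
      exact ((Scheme.pointSmallEtale ξ).toPresheafFiber_w_apply b w F.obj s).trans
        ((congrArg (fun v => germ ξ F V v s) hb).trans hs)
  choose s hs using fun i => h i (Finset.mem_univ i)
  exact ⟨V, g, z, hz, s, hs⟩

theorem exists_hom_lift_ab (F : EtCoh.Ab X) {U : X.Etale}
    (x : (Scheme.pointSmallEtale ξ).fiber.obj U) (M : AddCommGrpCat.{u + 1}) [Finite M]
    (p : M ⟶ (Scheme.pointSmallEtale ξ).sheafFiber.obj F) :
    ∃ (V : X.Etale) (g : V ⟶ U) (z : (Scheme.pointSmallEtale ξ).fiber.obj V),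
      (Scheme.pointSmallEtale ξ).fiber.map g z = x ∧
        ∃ c : M ⟶ F.obj.obj (op V), c ≫ germ ξ F V z = p := by
  letI := Fintype.ofFinite M
  obtain ⟨V, g, z, hz, s, hs⟩ := exists_sections ξ F x (fun m : M => p m)
  obtain ⟨W, k, w, hw, h⟩ := exists_nbhd_forall ξ z (Finset.univ : Finset (M × M))
    (fun q W k _ => F.obj.map k.op (s (q.1 + q.2)) = F.obj.map k.op (s q.1 + s q.2))
    (fun q W k W' l _ e => by
      rw [op_comp, Functor.map_comp]
      exact (ConcreteCategory.comp_apply _ _ _).trans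
        ((congrArg _ e).trans (ConcreteCategory.comp_apply _ _ _).symm)) fun q _ => by
    refine (germ_eq_iff ξ F V z _ _).1 ?_
    rw [map_add (germ ξ F V z).hom, hs, hs, hs, map_add]
  refine ⟨W, k ≫ g, w, ?_, AddCommGrpCat.ofHom (AddMonoidHom.mk' (fun m => F.obj.map k.op (s m))
    fun m m' => (h (m, m') (Finset.mem_univ _)).trans (map_add (F.obj.map k.op).hom _ _)), ?_⟩
  · exact (ConcreteCategory.congr_hom ((Scheme.pointSmallEtale ξ).fiber.map_comp k g) w).trans
      ((ConcreteCategory.comp_apply _ _ _).trans ((congrArg _ hw).trans hz))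
  · ext m
    exact ((Scheme.pointSmallEtale ξ).toPresheafFiber_w_apply k w F.obj (s m)).trans
      ((congrArg (fun v => germ ξ F V v (s m)) hw).trans (hs m))

theorem exists_hom_lift_mod (Λ : Type (u + 1)) [CommRing Λ] (F : EtModW.Mod Λ X) {U : X.Etale}
    (x : (Scheme.pointSmallEtale ξ).fiber.obj U) (M : ModuleCat.{u + 1} Λ)
    [Module.FinitePresentation Λ M] (p : M ⟶ (Scheme.pointSmallEtale ξ).sheafFiber.obj F) :
    ∃ (V : X.Etale) (g : V ⟶ U) (z : (Scheme.pointSmallEtale ξ).fiber.obj V),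
      (Scheme.pointSmallEtale ξ).fiber.map g z = x ∧
        ∃ c : M ⟶ F.obj.obj (op V), c ≫ germ ξ F V z = p := by
  obtain ⟨n, π, hπ, hker⟩ : ∃ (n : ℕ) (π : (Fin n → Λ) →ₗ[Λ] M),
      Function.Surjective π ∧ (LinearMap.ker π).FG := by
    obtain ⟨n, K, e, hK⟩ := Module.FinitePresentation.exists_fin Λ M
    refine ⟨n, e.symm.toLinearMap.comp K.mkQ, e.symm.surjective.comp K.mkQ_surjective, ?_⟩
    rwa [LinearEquiv.ker_comp, Submodule.ker_mkQ]
  obtain ⟨r, hr⟩ := hker
  obtain ⟨V, g, z, hz, s, hs⟩ := exists_sections ξ F x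
    (fun i : ULift.{u + 1} (Fin n) => p (π (Pi.single i.down 1)))
  let L : (Fin n → Λ) →ₗ[Λ] F.obj.obj (op V) :=
    Fintype.linearCombination Λ fun i => s (ULift.up i)
  have hL : (germ ξ F V z).hom.comp L = p.hom.comp π := by
    refine (Pi.basisFun Λ (Fin n)).ext fun i => ?_
    simp [L, hs]
  obtain ⟨W, k, w, hw, h⟩ := exists_nbhd_forall ξ z r
    (fun v W k _ => F.obj.map k.op (L v) = F.obj.map k.op 0)
    (fun v W k W' l _ e => by
      rw [op_comp, Functor.map_comp]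
      exact (ConcreteCategory.comp_apply _ _ _).trans
        ((congrArg _ e).trans (ConcreteCategory.comp_apply _ _ _).symm)) fun v hv => by
    refine (germ_eq_iff ξ F V z _ _).1 ?_
    have h0 : π v = 0 := LinearMap.mem_ker.1 (hr ▸ Submodule.subset_span hv)
    have h1 := LinearMap.congr_fun hL v
    rw [LinearMap.comp_apply, LinearMap.comp_apply, h0, map_zero] at h1
    exact h1.trans (map_zero (germ ξ F V z).hom).symm
  have hle : LinearMap.ker π ≤ LinearMap.ker ((F.obj.map k.op).hom.comp L) := by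
    rw [← hr, Submodule.span_le]
    intro v hv
    exact LinearMap.mem_ker.2 ((h v hv).trans (map_zero (F.obj.map k.op).hom))
  let c : M →ₗ[Λ] F.obj.obj (op W) := (Submodule.liftQ (LinearMap.ker π) _ hle).comp
    (π.quotKerEquivOfSurjective hπ).symm.toLinearMap
  refine ⟨W, k ≫ g, w, ?_, ModuleCat.ofHom c, ?_⟩
  · exact (ConcreteCategory.congr_hom ((Scheme.pointSmallEtale ξ).fiber.map_comp k g) w).trans
      ((ConcreteCategory.comp_apply _ _ _).trans ((congrArg _ hw).trans hz))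
  · ext m
    obtain ⟨v, rfl⟩ := hπ m
    have hc : c (π v) = F.obj.map k.op (L v) := by
      simp only [c, LinearMap.comp_apply, LinearEquiv.coe_coe]
      rw [show π v = π.quotKerEquivOfSurjective hπ (Submodule.Quotient.mk v) from rfl,
        LinearEquiv.symm_apply_apply]
      rfl
    refine (congrArg (germ ξ F W w) hc).trans ?_
    refine ((Scheme.pointSmallEtale ξ).toPresheafFiber_w_apply k w F.obj (L v)).trans ?_
    exact ((congrArg (fun y => germ ξ F V y (L v)) hw).trans (LinearMap.congr_fun hL v))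

end Groth.Agent.H18Et.LC
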