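import Groth.Agent.H18Et.LC.Specialize
import Groth.Agent.H18Et.LC.Nbhd
import Mathlib.AlgebraicGeometry.Morphisms.FiniteType
import Mathlib.AlgebraicGeometry.Noetherian

/-!
# Specialisation criterion for finite locally constant sheaves
-/

set_option backward.isDefEq.respectTransparency false
set_option backward.isDefEq.respectTransparency.types false

universe u

open CategoryTheory CategoryTheory.Limits AlgebraicGeometry Opposite

namespace Groth.Agent.H18Et.LC

open scoped Groth.Agent.H18Et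

/-- A neighbourhood of `v` in which every point is joined to `v` by a common generisation. -/
theorem exists_star_nbhd {V : Scheme.{u}} [IsLocallyNoetherian V] (v : V) :
    ∃ W : V.Opens, v ∈ W ∧ ∀ w ∈ W, ∃ η : V, η ∈ W ∧ η ⤳ w ∧ η ⤳ v := by
  obtain ⟨O, hO, hvO, -⟩ := exists_isAffineOpen_mem_and_subset (X := V) (x := v) (U := ⊤) trivial
  haveI : IsAffine O.toScheme := hO
  haveI : IsLocallyNoetherian O.toScheme := isLocallyNoetherian_of_isOpenImmersion O.ι
  haveI : IsNoetherian O.toScheme := {}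
  let v' : O.toScheme := ⟨v, hvO⟩
  let B : Set O.toScheme := ⋃ C ∈ {C ∈ irreducibleComponents O.toScheme | v' ∉ C}, C
  have hfin : {C ∈ irreducibleComponents O.toScheme | v' ∉ C}.Finite :=
    (TopologicalSpace.NoetherianSpace.finite_irreducibleComponents).subset fun C h => h.1
  have hB : IsClosed B := hfin.isClosed_biUnion fun C h => isClosed_of_mem_irreducibleComponents C h.1
  refine ⟨O.ι ''ᵁ ⟨Bᶜ, hB.isOpen_compl⟩, ⟨v', ?_, rfl⟩, ?_⟩
  · intro hv
    obtain ⟨C, hC, hvC⟩ := Set.mem_iUnion₂.1 hv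
    exact hC.2 hvC
  · rintro _ ⟨w, hw, rfl⟩
    have hirr := isIrreducible_irreducibleComponent (x := w)
    obtain ⟨η, hη⟩ := QuasiSober.sober hirr isClosed_irreducibleComponent
    have h1 : v' ∈ irreducibleComponent w := by
      by_contra h
      exact hw (Set.mem_iUnion₂.2 ⟨_, ⟨irreducibleComponent_mem_irreducibleComponents w, h⟩,
        mem_irreducibleComponent⟩)
    have h2 : η ⤳ w := hη.specializes mem_irreducibleComponent
    exact ⟨O.ι η, ⟨η, fun h => hw (h2.mem_closed hB h), rfl⟩,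
      h2.map O.ι.continuous, (hη.specializes h1).map O.ι.continuous⟩

variable {X : Scheme.{u}}

theorem isFiniteLocallyConstant_of_specialization [IsLocallyNoetherian X] (F : EtCoh.Ab X)
    (hfin : ∀ (Ω : Type u) [Field Ω] [IsSepClosed Ω] (ξ : Spec (CommRingCat.of Ω) ⟶ X),
      Finite ((EtCoh.stalk ξ).obj F))
    (h : ∀ (Ω Ω' : Type u) [Field Ω] [IsSepClosed Ω] [Field Ω'] [IsSepClosed Ω']
        (ξ : Spec (CommRingCat.of Ω) ⟶ X) (ξ' : Spec (CommRingCat.of Ω') ⟶ X)
        (φ : Scheme.pointSmallEtale ξ' ⟶ Scheme.pointSmallEtale ξ),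
        IsIso ((GrothendieckTopology.Point.Hom.sheafFiber (A := AddCommGrpCat.{u + 1}) φ).app F)) :
    EtCoh.IsFiniteLocallyConstant F := by
  have key : ∀ x : X, ∃ (W : X.Etale) (y : W.left), W.hom.base y = x ∧
      ∃ (M : AddCommGrpCat.{u + 1}) (_ : Finite M) (c : M ⟶ F.obj.obj (op W)), IsConstOn F W c := by
    intro x
    obtain ⟨e, -⟩ := exists_fiber_over (U := EtCoh.top X) x (geomPt x) (geomPt_base x)
    haveI hM : Finite ((Scheme.pointSmallEtale (geomPt x)).sheafFiber.obj F : AddCommGrpCat.{u + 1}) :=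
      hfin _ (geomPt x)
    obtain ⟨V, g, z, -, c, hc⟩ := exists_hom_lift_ab (geomPt x) F e _ (𝟙 _)
    haveI : Etale V.hom := V.prop
    haveI : IsLocallyNoetherian V.left :=
      LocallyOfFiniteType.isLocallyNoetherian (Y := X) (V.hom : V.left ⟶ X)
    obtain ⟨O, hvO, hO⟩ := exists_star_nbhd (ptOf z)
    let W : X.Etale := MorphismProperty.Over.mk ⊤ (O.ι ≫ V.hom) (inferInstanceAs (Etale _))
    let j : W ⟶ V := MorphismProperty.Over.homMk O.ι rfl trivial
    let y : W.left := ⟨ptOf z, hvO⟩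
    have hy : W.hom.base y = x := (Scheme.Hom.comp_apply _ _ _).trans ((ptOf_base z).trans (geomPt_base x))
    obtain ⟨t, ht⟩ := exists_fiber_over (U := W) y (geomPt x) ((geomPt_base x).trans hy.symm)
    refine ⟨W, y, hy, _, hM, c ≫ F.obj.map j.op, ?_⟩
    refine isConstOn_of_generization _ t ?_ (fun Ω₁ Ω₂ _ _ _ _ ξ₁ ξ₂ φ => h Ω₁ Ω₂ ξ₁ ξ₂ φ) fun w => ?_
    · rw [Category.assoc, germ, GrothendieckTopology.Point.toPresheafFiber_w]
      obtain ⟨φ, hφ⟩ := exists_specialization_lift z ((Scheme.pointSmallEtale (geomPt x)).fiber.map j t)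
        (by rw [← ptOf_map, ht]; exact specializes_rfl)
      haveI := h _ _ _ _ φ
      have := (isIso_germ_of_specialization c φ z).1 (by rw [hc]; exact IsIso.id _)
      rw [hφ] at this
      exact this
    · obtain ⟨η, hη, h1, h2⟩ := hO w.1 w.2
      refine ⟨⟨η, hη⟩, (subtype_specializes_iff _ _).2 h1, ?_⟩
      rw [ht]
      exact (subtype_specializes_iff _ _).2 h2
  choose W y hy M hM c hc using key
  exact (isFiniteLocallyConstant_iff F).2
    ⟨X, W, fun x => ⟨x, y x, hy x⟩, fun x => ⟨M x, hM x, c x, hc x⟩⟩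

theorem isIso_specialization_of_flc {F : EtCoh.Ab X} (hF : EtCoh.IsFiniteLocallyConstant F)
    {Ω Ω' : Type u} [Field Ω] [IsSepClosed Ω] [Field Ω'] [IsSepClosed Ω']
    {ξ : Spec (CommRingCat.of Ω) ⟶ X} {ξ' : Spec (CommRingCat.of Ω') ⟶ X}
    (φ : Scheme.pointSmallEtale ξ' ⟶ Scheme.pointSmallEtale ξ) :
    IsIso ((GrothendieckTopology.Point.Hom.sheafFiber (A := AddCommGrpCat.{u + 1}) φ).app F) := by
  obtain ⟨ι, U, hU, hc⟩ := (isFiniteLocallyConstant_iff F).1 hF
  obtain ⟨i, y, hy⟩ := hU (ξ.base default)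
  obtain ⟨z, -⟩ := exists_fiber_over y ξ hy.symm
  obtain ⟨M, -, c, hc⟩ := hc i
  exact hc.isIso_specialization φ z

end Groth.Agent.H18Et.LC
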