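import Groth.Agent.H18Et.LC.Exact
import Mathlib.Algebra.Homology.ShortComplex.Ab
import Mathlib.Algebra.Homology.ShortComplex.ModuleCat
import Mathlib.RingTheory.Noetherian.Basic

/-!
# Finite locally constant sheaves form a weak Serre subcategory
-/

set_option backward.isDefEq.respectTransparency false
set_option backward.isDefEq.respectTransparency.types false

universe u

open CategoryTheory CategoryTheory.Limits AlgebraicGeometry Opposite

namespace Groth.Agent.H18Et.LC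

open scoped Groth.Agent.H18Et

scoped instance ab5_moduleCat (Λ : Type (u + 1)) [CommRing Λ] : AB5OfSize.{u, u} (ModuleCat.{u + 1} Λ) :=
  AB5OfSize_of_univLE.{u, u, u + 1, u + 1} _

variable {X : Scheme.{u}}

theorem covers_of_forall {U : X → X.Etale} (h : ∀ x, ∃ y : (U x).left, (U x).hom.base y = x) :
    EtCoh.Covers U := fun x => ⟨x, h x⟩

theorem fiber_base {x : X} {U : X.Etale}
    (z : (Scheme.pointSmallEtale (geomPt x)).fiber.obj U) : ∃ y : U.left, U.hom.base y = x :=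
  ⟨ptOf z, (Scheme.pointSmallEtaleFiberObjToPreimage (geomPt x) rfl z).2.trans (geomPt_base x)⟩

theorem exists_common_members {ι ι' : Type u} {U : ι → X.Etale} (hU : EtCoh.Covers U)
    {U' : ι' → X.Etale} (hU' : EtCoh.Covers U') (x : X) :
    ∃ (i : ι) (j : ι') (V : X.Etale) (_ : V ⟶ U i) (_ : V ⟶ U' j),
      Nonempty ((Scheme.pointSmallEtale (geomPt x)).fiber.obj V) := by
  obtain ⟨i, y, hy⟩ := hU x
  obtain ⟨j, y', hy'⟩ := hU' x
  obtain ⟨a, -⟩ := exists_fiber_over y (geomPt x) ((geomPt_base x).trans hy.symm)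
  obtain ⟨b, -⟩ := exists_fiber_over y' (geomPt x) ((geomPt_base x).trans hy'.symm)
  obtain ⟨W, p, q, w, -, -⟩ := exists_common (geomPt x) a b
  exact ⟨i, j, W, p, q, ⟨w⟩⟩

/-- Near every point, a map of finite locally constant sheaves is a map of finite values. -/
theorem exists_hom_ab {F G : EtCoh.Ab X} (φ : F ⟶ G) (hF : EtCoh.IsFiniteLocallyConstant F)
    (hG : EtRest.IsLocallyConstant G) (x : X) :
    ∃ (V : X.Etale) (_ : (Scheme.pointSmallEtale (geomPt x)).fiber.obj V)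
      (M N : AddCommGrpCat.{u + 1}) (_ : Finite M) (c : M ⟶ F.obj.obj (op V))
      (d : N ⟶ G.obj.obj (op V)) (h : M ⟶ N),
      IsConstOn F V c ∧ IsConstOn G V d ∧ c ≫ φ.hom.app (op V) = h ≫ d := by
  obtain ⟨ι, U, hU, hc⟩ := (isFiniteLocallyConstant_iff F).1 hF
  obtain ⟨ι', U', hU', hd⟩ := (isLocallyConstant_iff G).1 hG
  obtain ⟨i, j, W, p, q, ⟨w⟩⟩ := exists_common_members hU hU' x
  obtain ⟨M, hM, c, hc⟩ := hc i
  obtain ⟨N, d, hd⟩ := hd j
  obtain ⟨V, z, c', d', h, h1, h2, h3⟩ :=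
    exists_local_hom (geomPt x) φ (fg_of_finite M) (hc.res p) (hd.res q) w w
  exact ⟨V, z, M, N, hM, c', d', h, h1, h2, h3⟩

theorem exists_hom_mod (Λ : Type (u + 1)) [CommRing Λ] {F G : EtModW.Mod Λ X} (φ : F ⟶ G)
    (hF : EtModW.IsFTLocConst Λ F) (hG : EtModW.IsFTLocConst Λ G) (x : X) :
    ∃ (V : X.Etale) (_ : (Scheme.pointSmallEtale (geomPt x)).fiber.obj V)
      (M N : ModuleCat.{u + 1} Λ) (_ : Module.Finite Λ M) (_ : Module.Finite Λ N)
      (c : M ⟶ F.obj.obj (op V)) (d : N ⟶ G.obj.obj (op V)) (h : M ⟶ N),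
      IsConstOn F V c ∧ IsConstOn G V d ∧ c ≫ φ.hom.app (op V) = h ≫ d := by
  obtain ⟨ι, U, hU, hc⟩ := (isFTLocConst_iff Λ F).1 hF
  obtain ⟨ι', U', hU', hd⟩ := (isFTLocConst_iff Λ G).1 hG
  obtain ⟨i, j, W, p, q, ⟨w⟩⟩ := exists_common_members hU hU' x
  obtain ⟨M, hM, c, hc⟩ := hc i
  obtain ⟨N, hN, d, hd⟩ := hd j
  obtain ⟨V, z, c', d', h, h1, h2, h3⟩ :=
    exists_local_hom (geomPt x) φ (fg_of_moduleFinite Λ M) (hc.res p) (hd.res q) w w
  exact ⟨V, z, M, N, hM, hN, c', d', h, h1, h2, h3⟩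

theorem isLocallyConstant_of_finite {F : EtCoh.Ab X} (h : EtCoh.IsFiniteLocallyConstant F) :
    EtRest.IsLocallyConstant F := by
  obtain ⟨ι, U, hU, hc⟩ := (isFiniteLocallyConstant_iff F).1 h
  refine (isLocallyConstant_iff F).2 ⟨ι, U, hU, fun i => ?_⟩
  obtain ⟨M, -, c, hc⟩ := hc i
  exact ⟨M, c, hc⟩

theorem isFiniteLocallyConstant_kernel_cokernel {F G : EtCoh.Ab X} (φ : F ⟶ G)
    (hF : EtCoh.IsFiniteLocallyConstant F) (hG : EtCoh.IsFiniteLocallyConstant G) :
    EtCoh.IsFiniteLocallyConstant (kernel φ) ∧ EtCoh.IsFiniteLocallyConstant (cokernel φ) := by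
  choose V z M N hM c d h hc hd e using exists_hom_ab φ hF (isLocallyConstant_of_finite hG)
  have hcov : EtCoh.Covers V := covers_of_forall fun x => fiber_base (z x)
  refine ⟨(isFiniteLocallyConstant_iff _).2 ⟨_, V, hcov, fun x => ?_⟩,
    (isFiniteLocallyConstant_iff _).2 ⟨_, V, hcov, fun x => ?_⟩⟩
  · obtain ⟨k, hk⟩ := exists_kernel φ (hc x) (hd x) (h x) (e x)
    have := hM x
    exact ⟨_, Finite.of_injective _ ((AddCommGrpCat.mono_iff_injective (kernel.ι (h x))).1 inferInstance), k, hk⟩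
  · obtain ⟨k, hk⟩ := exists_cokernel φ (hc x) (hd x) (h x) (e x)
    obtain ⟨ι', U', hU', hd'⟩ := (isFiniteLocallyConstant_iff G).1 hG
    obtain ⟨j, y, hy⟩ := hU' x
    obtain ⟨b, -⟩ := exists_fiber_over y (geomPt x) ((geomPt_base x).trans hy.symm)
    obtain ⟨N', hN', d', hd''⟩ := hd' j
    haveI := (hd x).isIso _ (z x)
    haveI := hd''.isIso _ b
    have : Finite (N x) := Finite.of_equiv N'
      (asIso (d' ≫ germ _ G (U' j) b) ≪≫ (asIso (d x ≫ germ _ G (V x) (z x))).symm).addCommGroupIsoToAddEquiv.toEquiv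
    exact ⟨_, Finite.of_surjective _ ((AddCommGrpCat.epi_iff_surjective (cokernel.π (h x))).1 inferInstance), k, hk⟩

theorem isFiniteLocallyConstant_extension {S : ShortComplex (EtCoh.Ab X)} (hS : S.ShortExact)
    (h₁ : EtCoh.IsFiniteLocallyConstant S.X₁) (h₃ : EtCoh.IsFiniteLocallyConstant S.X₃) :
    EtCoh.IsFiniteLocallyConstant S.X₂ := by
  obtain ⟨ι, U, hU, hc⟩ := (isFiniteLocallyConstant_iff _).1 h₁
  obtain ⟨ι', U', hU', hd⟩ := (isFiniteLocallyConstant_iff _).1 h₃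
  have key : ∀ x : X, ∃ (V : X.Etale) (_ : (Scheme.pointSmallEtale (geomPt x)).fiber.obj V)
      (M : AddCommGrpCat.{u + 1}) (_ : Finite M) (c : M ⟶ S.X₂.obj.obj (op V)),
      IsConstOn S.X₂ V c := by
    intro x
    obtain ⟨i, j, W, p, q, ⟨w⟩⟩ := exists_common_members hU hU' x
    obtain ⟨M, hM, c, hc⟩ := hc i
    obtain ⟨N, hN, d, hd⟩ := hd j
    haveI := (hc.res p).isIso _ w
    haveI := (hd.res q).isIso _ w
    let T := S.map (EtCoh.stalk (geomPt x))
    haveI : Finite T.X₁ := Finite.of_equiv M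
      (asIso ((c ≫ S.X₁.obj.map p.op) ≫ germ _ S.X₁ W w)).addCommGroupIsoToAddEquiv.toEquiv
    haveI : Finite T.X₃ := Finite.of_equiv N
      (asIso ((d ≫ S.X₃.obj.map q.op) ≫ germ _ S.X₃ W w)).addCommGroupIsoToAddEquiv.toEquiv
    have hfin : Finite T.X₂ := (hS.map_of_exact (EtCoh.stalk (geomPt x))).exact.ab_finite
    haveI : Finite ((Scheme.pointSmallEtale (geomPt x)).sheafFiber.obj S.X₂ : AddCommGrpCat.{u + 1}) := hfin
    obtain ⟨V, z, k, hk⟩ := exists_extension hS (geomPt x) w (hc.res p) (hd.res q) (fg_of_finite M)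
      (fg_of_finite _) (exists_hom_lift_ab (geomPt x) S.X₂ w _ (𝟙 _))
    exact ⟨V, z, _, hfin, k, hk⟩
  choose V z M hM c hc using key
  exact (isFiniteLocallyConstant_iff _).2
    ⟨_, V, covers_of_forall fun x => fiber_base (z x), fun x => ⟨M x, hM x, c x, hc x⟩⟩

theorem isFTLocConst_kernel_cokernel (Λ : Type (u + 1)) [CommRing Λ] [IsNoetherianRing Λ]
    {F G : EtModW.Mod Λ X} (φ : F ⟶ G)
    (hF : EtModW.IsFTLocConst Λ F) (hG : EtModW.IsFTLocConst Λ G) :
    EtModW.IsFTLocConst Λ (kernel φ) ∧ EtModW.IsFTLocConst Λ (cokernel φ) := by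
  choose V z M N hM hN c d h hc hd e using exists_hom_mod Λ φ hF hG
  have hcov : EtCoh.Covers V := covers_of_forall fun x => fiber_base (z x)
  refine ⟨(isFTLocConst_iff Λ _).2 ⟨_, V, hcov, fun x => ?_⟩,
    (isFTLocConst_iff Λ _).2 ⟨_, V, hcov, fun x => ?_⟩⟩
  · obtain ⟨k, hk⟩ := exists_kernel φ (hc x) (hd x) (h x) (e x)
    have := hM x
    have := isNoetherian_of_isNoetherianRing_of_finite Λ (M x)
    exact ⟨_, Module.Finite.of_injective (kernel.ι (h x)).hom
      ((ModuleCat.mono_iff_injective (kernel.ι (h x))).1 inferInstance), k, hk⟩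
  · obtain ⟨k, hk⟩ := exists_cokernel φ (hc x) (hd x) (h x) (e x)
    have := hN x
    exact ⟨_, Module.Finite.of_surjective (cokernel.π (h x)).hom
      ((ModuleCat.epi_iff_surjective (cokernel.π (h x))).1 inferInstance), k, hk⟩

theorem isFTLocConst_extension (Λ : Type (u + 1)) [CommRing Λ] [IsNoetherianRing Λ]
    {S : ShortComplex (EtModW.Mod Λ X)} (hS : S.ShortExact)
    (h₁ : EtModW.IsFTLocConst Λ S.X₁) (h₃ : EtModW.IsFTLocConst Λ S.X₃) :
    EtModW.IsFTLocConst Λ S.X₂ := by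
  obtain ⟨ι, U, hU, hc⟩ := (isFTLocConst_iff Λ _).1 h₁
  obtain ⟨ι', U', hU', hd⟩ := (isFTLocConst_iff Λ _).1 h₃
  have key : ∀ x : X, ∃ (V : X.Etale) (_ : (Scheme.pointSmallEtale (geomPt x)).fiber.obj V)
      (M : ModuleCat.{u + 1} Λ) (_ : Module.Finite Λ M) (c : M ⟶ S.X₂.obj.obj (op V)),
      IsConstOn S.X₂ V c := by
    intro x
    obtain ⟨i, j, W, p, q, ⟨w⟩⟩ := exists_common_members hU hU' x
    obtain ⟨M, hM, c, hc⟩ := hc i
    obtain ⟨N, hN, d, hd⟩ := hd j
    haveI := (hc.res p).isIso _ w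
    haveI := (hd.res q).isIso _ w
    haveI : (EtModW.stalk Λ (geomPt x)).PreservesZeroMorphisms := sheafFiber_preservesZero _
    let T := S.map (EtModW.stalk Λ (geomPt x))
    have hT := hS.map_of_exact (EtModW.stalk Λ (geomPt x))
    haveI : Module.Finite Λ T.X₁ := Module.Finite.equiv
      (asIso ((c ≫ S.X₁.obj.map p.op) ≫ germ _ S.X₁ W w)).toLinearEquiv
    haveI : Module.Finite Λ T.X₃ := Module.Finite.equiv
      (asIso ((d ≫ S.X₃.obj.map q.op) ≫ germ _ S.X₃ W w)).toLinearEquiv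
    have := isNoetherian_of_isNoetherianRing_of_finite Λ T.X₁
    have := isNoetherian_of_isNoetherianRing_of_finite Λ T.X₃
    have hfin : Module.Finite Λ T.X₂ :=
      ⟨Submodule.fg_of_fg_map_of_fg_inf_ker T.g.hom (IsNoetherian.noetherian _) (by
        rw [top_inf_eq, ← hT.exact.moduleCat_range_eq_ker, LinearMap.range_eq_map]
        exact Submodule.FG.map _ (IsNoetherian.noetherian _))⟩
    haveI : Module.Finite Λ ((Scheme.pointSmallEtale (geomPt x)).sheafFiber.obj S.X₂ : ModuleCat.{u + 1} Λ) := hfin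
    haveI : Module.FinitePresentation Λ ((Scheme.pointSmallEtale (geomPt x)).sheafFiber.obj S.X₂ : ModuleCat.{u + 1} Λ) :=
      Module.finitePresentation_of_finite Λ _
    obtain ⟨V, z, k, hk⟩ := exists_extension hS (geomPt x) w (hc.res p) (hd.res q)
      (fg_of_moduleFinite Λ M) (fg_of_moduleFinite Λ _)
      (exists_hom_lift_mod (geomPt x) Λ S.X₂ w _ (𝟙 _))
    exact ⟨V, z, _, hfin, k, hk⟩
  choose V z M hM c hc using key
  exact (isFTLocConst_iff Λ _).2
    ⟨_, V, covers_of_forall fun x => fiber_base (z x), fun x => ⟨M x, hM x, c x, hc x⟩⟩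

end Groth.Agent.H18Et.LC
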