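import Groth.Agent.H18Et.Stalk

/-!
# Constant restrictions and germs

A homomorphism `c : M ⟶ F(U)` presents the restriction of `F` to `U` as a constant sheaf exactly
when it induces isomorphisms onto all geometric stalks over `U`.
-/

set_option backward.isDefEq.respectTransparency false
set_option backward.isDefEq.respectTransparency.types false

universe u

open CategoryTheory CategoryTheory.Limits AlgebraicGeometry Opposite

namespace Groth.Agent.H18Et.LC

variable {X : Scheme.{u}}

section Generic

variable {A : Type (u + 2)} [Category.{u + 1} A] [HasColimitsOfSize.{u, u} A]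
  {FA : A → A → Type*} {CA : A → Type (u + 1)} [∀ P Q, FunLike (FA P Q) (CA P) (CA Q)]
  [hA : ConcreteCategory.{u + 1} A FA] [PreservesFilteredColimitsOfSize.{u, u} (CategoryTheory.forget A)]
  [X.smallEtaleTopology.HasSheafCompose (CategoryTheory.forget A)]

set_option linter.unusedSectionVars false

/-- `c` induces isomorphisms from `M` onto the stalks of `F` at all geometric points over `U`. -/
def IsConstOn (F : Sheaf X.smallEtaleTopology A) (U : X.Etale) {M : A}
    (c : M ⟶ F.obj.obj (op U)) : Prop :=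
  ∀ (Ω : Type u) [Field Ω] [IsSepClosed Ω] (ξ : Spec (CommRingCat.of Ω) ⟶ X)
    (x : (Scheme.pointSmallEtale ξ).fiber.obj U), IsIso (c ≫ germ ξ F U x)

variable {F : Sheaf X.smallEtaleTopology A} {U : X.Etale} {M : A} {c : M ⟶ F.obj.obj (op U)}

theorem IsConstOn.isIso (h : IsConstOn F U c) {Ω : Type u} [Field Ω] [IsSepClosed Ω]
    (ξ : Spec (CommRingCat.of Ω) ⟶ X) (x : (Scheme.pointSmallEtale ξ).fiber.obj U) :
    IsIso (c ≫ germ ξ F U x) := h Ω ξ x

theorem IsConstOn.res (h : IsConstOn F U c) {V : X.Etale} (g : V ⟶ U) :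
    IsConstOn F V (c ≫ F.obj.map g.op) := by
  intro Ω _ _ ξ x
  rw [Category.assoc, germ, GrothendieckTopology.Point.toPresheafFiber_w]
  exact h Ω ξ _

theorem IsConstOn.precomp (h : IsConstOn F U c) {M' : A} (e : M' ⟶ M) [IsIso e] :
    IsConstOn F U (e ≫ c) := by
  intro Ω _ _ ξ x
  rw [Category.assoc]
  have := h Ω ξ x
  infer_instance

theorem IsConstOn.postcomp (h : IsConstOn F U c) {G : Sheaf X.smallEtaleTopology A} (e : F ⟶ G)
    [IsIso e] : IsConstOn G U (c ≫ e.hom.app (op U)) := by
  intro Ω _ _ ξ x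
  rw [Category.assoc, germ,
    ← (Scheme.pointSmallEtale ξ).toPresheafFiber_naturality e.hom U x, ← Category.assoc]
  haveI := h Ω ξ x
  haveI : IsIso ((Scheme.pointSmallEtale ξ).presheafFiber.map e.hom) :=
    inferInstanceAs (IsIso ((Scheme.pointSmallEtale ξ).sheafFiber.map e))
  infer_instance

theorem IsConstOn.bijective (h : IsConstOn F U c) {Ω : Type u} [Field Ω] [IsSepClosed Ω]
    (ξ : Spec (CommRingCat.of Ω) ⟶ X) (x : (Scheme.pointSmallEtale ξ).fiber.obj U) :
    Function.Bijective fun m => germ ξ F U x (c m) := by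
  have := h Ω ξ x
  have hb := ConcreteCategory.bijective_of_isIso (c ≫ germ ξ F U x)
  have e : (fun m => germ ξ F U x (c m)) = ⇑(ConcreteCategory.hom (c ≫ germ ξ F U x)) :=
    funext fun m => (ConcreteCategory.comp_apply _ _ _).symm
  exact e ▸ hb

theorem isConstOn_of_bijective
    (h : ∀ (Ω : Type u) [Field Ω] [IsSepClosed Ω] (ξ : Spec (CommRingCat.of Ω) ⟶ X)
      (x : (Scheme.pointSmallEtale ξ).fiber.obj U), Function.Bijective fun m => germ ξ F U x (c m))
    [(CategoryTheory.forget A).ReflectsIsomorphisms] : IsConstOn F U c := by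
  intro Ω _ _ ξ x
  rw [ConcreteCategory.isIso_iff_bijective]
  have e : ⇑(ConcreteCategory.hom (c ≫ germ ξ F U x)) = fun m => germ ξ F U x (c m) :=
    funext fun m => ConcreteCategory.comp_apply _ _ _
  exact e ▸ h Ω ξ x

theorem exists_point_over {V : X.Etale} (v : V.left) :
    ∃ (Ω : Type u) (_ : Field Ω) (_ : IsSepClosed Ω) (ξ : Spec (CommRingCat.of Ω) ⟶ X)
      (x : (Scheme.pointSmallEtale ξ).fiber.obj V), ptOf x = v := by
  obtain ⟨x, hx⟩ := exists_fiber_over v (geomPt (V.hom.base v)) (geomPt_base _)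
  exact ⟨_, inferInstance, inferInstance, _, x, hx⟩

variable [(CategoryTheory.forget A).ReflectsIsomorphisms]
  [HasWeakSheafify (X.smallEtaleTopology.over U) A]
  [(X.smallEtaleTopology.over U).WEqualsLocallyBijective A]

variable (F U) in
/-- The presheaf morphism given by `c`. -/
noncomputable def constPre {M : A} (c : M ⟶ F.obj.obj (op U)) :
    (Functor.const (Over U)ᵒᵖ).obj M ⟶ (F.over U).obj where
  app W := c ≫ F.obj.map W.unop.hom.op
  naturality W W' k := by
    refine (Category.id_comp _).trans ?_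
    refine Eq.trans ?_ (Category.assoc _ _ _).symm
    refine congrArg (c ≫ ·) ?_
    refine Eq.trans ?_ (F.obj.map_comp W.unop.hom.op k.unop.left.op)
    rw [← op_comp, Over.w k.unop]

variable (F U) in
/-- The morphism from the constant sheaf given by `c`. -/
noncomputable def constTo {M : A} (c : M ⟶ F.obj.obj (op U)) :
    (constantSheaf (X.smallEtaleTopology.over U) A).obj M ⟶ F.over U :=
  ((sheafificationAdjunction (X.smallEtaleTopology.over U) A).homEquiv _ _).symm (constPre F U c)

theorem exists_of_covering {V : X.Etale} {R : Sieve V} (hR : R ∈ X.smallEtaleTopology V)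
    {Ω : Type u} [Field Ω] [IsSepClosed Ω] {ξ : Spec (CommRingCat.of Ω) ⟶ X}
    (x : (Scheme.pointSmallEtale ξ).fiber.obj V) :
    ∃ (W : X.Etale) (g : W ⟶ V) (y : (Scheme.pointSmallEtale ξ).fiber.obj W),
      R g ∧ (Scheme.pointSmallEtale ξ).fiber.map g y = x := by
  obtain ⟨W, g, hg, y, hy⟩ := (Scheme.pointSmallEtale ξ).jointly_surjective R hR x
  exact ⟨W, g, y, hg, hy⟩

include hA in
theorem isIso_constTo (h : IsConstOn F U c) : IsIso (constTo F U c) := by
  have hW : (X.smallEtaleTopology.over U).W (constPre F U c) := by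
    refine (GrothendieckTopology.W_iff_isLocallyBijective (X.smallEtaleTopology.over U) (constPre F U c)).2 ?_
    refine ⟨⟨fun {W} m m' e => ?_⟩, ⟨fun {W} s => ?_⟩⟩
    · rw [GrothendieckTopology.mem_over_iff]
      refine mem_topology_of_forall_point _ fun v => ?_
      obtain ⟨Ω, _, _, ξ, x, -⟩ := exists_point_over v
      refine ⟨W.unop.left, 𝟙 _, v, ?_, rfl⟩
      rw [Sieve.overEquiv_iff]
      have e' : F.obj.map W.unop.hom.op (c m) = F.obj.map W.unop.hom.op (c m') :=
        (ConcreteCategory.comp_apply _ _ _).symm.trans (e.trans (ConcreteCategory.comp_apply _ _ _))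
      have hw := fun n => (Scheme.pointSmallEtale ξ).toPresheafFiber_w_apply W.unop.hom x F.obj (c n)
      have hm : m = m' := (h.bijective ξ _).1
        ((hw m).symm.trans ((congrArg (germ ξ F _ x) e').trans (hw m')))
      subst hm
      rfl
    · rw [GrothendieckTopology.mem_over_iff]
      refine mem_topology_of_forall_point _ fun v => ?_
      obtain ⟨Ω, _, _, ξ, x, hx⟩ := exists_point_over v
      obtain ⟨m, hm⟩ := (h.bijective ξ ((Scheme.pointSmallEtale ξ).fiber.map W.hom x)).2
        (germ ξ F W.left x s)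
      dsimp only at hm
      have hm' : germ ξ F W.left x (F.obj.map W.hom.op (c m)) = germ ξ F W.left x s :=
        ((Scheme.pointSmallEtale ξ).toPresheafFiber_w_apply W.hom x F.obj _).trans hm
      obtain ⟨V, g, y, hy, e⟩ := (germ_eq_iff ξ F W.left x _ _).1 hm'
      refine ⟨V, g, ptOf y, ?_, (ptOf_map g y).trans ((congrArg ptOf hy).trans hx)⟩
      rw [Sieve.overEquiv_iff]
      refine ⟨m, ?_⟩
      refine Eq.trans ?_ e
      refine ((ConcreteCategory.comp_apply _ _ _).trans ?_)
      rw [← ConcreteCategory.comp_apply (F.obj.map W.hom.op) (F.obj.map g.op), ← F.obj.map_comp,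
        ← op_comp]
      rfl
  rw [GrothendieckTopology.W_iff] at hW
  rw [constTo, Adjunction.homEquiv_counit]
  infer_instance

include hA in
/-- The constant sheaf identified with the restriction. -/
noncomputable def constIso (h : IsConstOn F U c) :
    (constantSheaf (X.smallEtaleTopology.over U) A).obj M ≅ F.over U :=
  haveI := isIso_constTo h
  asIso (constTo F U c)

include hA in
theorem nonempty_iso_of_isConstOn (h : IsConstOn F U c) :
    Nonempty (F.over U ≅ (constantSheaf (X.smallEtaleTopology.over U) A).obj M) :=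
  ⟨(constIso h).symm⟩

/-- Compatibility of the identifications with maps. -/
theorem constTo_naturality {G : Sheaf X.smallEtaleTopology A} {N : A} (d : N ⟶ G.obj.obj (op U))
    (φ : F ⟶ G) (f : M ⟶ N) (e : c ≫ φ.hom.app (op U) = f ≫ d) :
    constTo F U c ≫ (X.smallEtaleTopology.overPullback A U).map φ =
      (constantSheaf (X.smallEtaleTopology.over U) A).map f ≫ constTo G U d := by
  refine ((sheafificationAdjunction (X.smallEtaleTopology.over U) A).homEquiv _ _).injective ?_
  refine ((Adjunction.homEquiv_naturality_right _ _ _).trans ?_).trans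
    (Adjunction.homEquiv_naturality_left _ _ _).symm
  rw [constTo, constTo, Equiv.apply_symm_apply, Equiv.apply_symm_apply]
  refine NatTrans.ext (funext fun W => ?_)
  change (c ≫ F.obj.map W.unop.hom.op) ≫ φ.hom.app (op W.unop.left) = f ≫ (d ≫ G.obj.map W.unop.hom.op)
  rw [Category.assoc, φ.hom.naturality, ← Category.assoc, e, Category.assoc]

include hA in
theorem exists_isConstOn_of_iso
    (e : F.over U ≅ (constantSheaf (X.smallEtaleTopology.over U) A).obj M) :
    ∃ c : M ⟶ F.obj.obj (op U), IsConstOn F U c := by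
  let J := X.smallEtaleTopology.over U
  let P : (Over U)ᵒᵖ ⥤ A := (Functor.const _).obj M
  let c : M ⟶ F.obj.obj (op U) :=
    (toSheafify J P).app (op (Over.mk (𝟙 U))) ≫ e.inv.hom.app (op (Over.mk (𝟙 U)))
  have key : ∀ {V : X.Etale} (g : V ⟶ U),
      c ≫ F.obj.map g.op = (toSheafify J P).app (op (Over.mk g)) ≫ e.inv.hom.app (op (Over.mk g)) := by
    intro V g
    let k : Over.mk g ⟶ Over.mk (𝟙 U) := Over.homMk g (Category.comp_id g)
    have := (toSheafify J P ≫ e.inv.hom).naturality k.op
    exact this.symm.trans (Category.id_comp _)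
  refine ⟨c, isConstOn_of_bijective fun Ω _ _ ξ x => ⟨fun m m' hm => ?_, fun p => ?_⟩⟩
  · obtain ⟨V, g, y, -, e'⟩ := (germ_eq_iff ξ F U x _ _).1 hm
    rw [← ConcreteCategory.comp_apply, ← ConcreteCategory.comp_apply, key g] at e'
    simp only [ConcreteCategory.comp_apply] at e'
    have h1 := (ConcreteCategory.bijective_of_isIso (e.inv.hom.app (op (Over.mk g)))).1 e'
    have h2 := Presheaf.equalizerSieve_mem J (toSheafify J P) _ _ h1
    rw [GrothendieckTopology.mem_over_iff] at h2
    obtain ⟨W, k, z, hk, -⟩ := exists_of_covering h2 y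
    rw [Sieve.overEquiv_iff] at hk
    exact ((ConcreteCategory.id_apply m).symm.trans hk).trans (ConcreteCategory.id_apply m')
  · obtain ⟨V, y, s, rfl⟩ := germ_surjective ξ F p
    obtain ⟨⟨Z, z⟩, ⟨a, ha⟩, ⟨b, hb⟩, -⟩ := IsCofilteredOrEmpty.cone_objs
      (C := (Scheme.pointSmallEtale ξ).fiber.Elements) ⟨V, y⟩ ⟨U, x⟩
    dsimp at a b ha hb
    have h2 := Presheaf.imageSieve_mem J (toSheafify J P) (U := op (Over.mk b))
      (e.hom.hom.app (op (Over.mk b)) (F.obj.map a.op s))
    rw [GrothendieckTopology.mem_over_iff] at h2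
    obtain ⟨W, k, w, hk, hw⟩ := exists_of_covering h2 z
    rw [Sieve.overEquiv_iff] at hk
    obtain ⟨m, hm⟩ := hk
    refine ⟨m, ?_⟩
    dsimp only
    rw [← hb, ← ha, ← hw]
    let Φ := Scheme.pointSmallEtale ξ
    refine (((Φ.toPresheafFiber_w_apply b _ F.obj (c m)).symm.trans
      (Φ.toPresheafFiber_w_apply k w F.obj _).symm).trans (Eq.trans (congrArg _ ?_)
        ((Φ.toPresheafFiber_w_apply k w F.obj _).trans (Φ.toPresheafFiber_w_apply a _ F.obj s))))
    have h3 := congrArg (e.inv.hom.app (op (Over.mk (k ≫ b)))) hm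
    have h4 := ConcreteCategory.congr_hom (key (k ≫ b)) m
    have h5 : e.inv.hom.app (op (Over.mk b)) (e.hom.hom.app (op (Over.mk b)) (F.obj.map a.op s)) =
        F.obj.map a.op s := by
      rw [← ConcreteCategory.comp_apply, ← NatTrans.comp_app, ← ObjectProperty.FullSubcategory.comp_hom,
        e.hom_inv_id]
      exact ConcreteCategory.id_apply _
    refine ((ConcreteCategory.comp_apply (F.obj.map b.op) (F.obj.map k.op) (c m)).symm.trans
      (congrArg (fun q => q (c m)) (congrArg ConcreteCategory.hom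
        (F.obj.map_comp b.op k.op)).symm)).trans ?_
    refine ((ConcreteCategory.comp_apply _ _ _).symm.trans (h4.trans
      ((ConcreteCategory.comp_apply _ _ _).trans (h3.trans ?_))))
    refine Eq.trans ?_ (congrArg (F.obj.map k.op) h5)
    exact NatTrans.naturality_apply e.inv.hom
      (Over.homMk k rfl : Over.mk (k ≫ b) ⟶ Over.mk b).op _

end Generic

end Groth.Agent.H18Et.LC
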