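import Groth.Agent.H18Et.LC.Basic
import Groth.Agent.H18Et.Germ

/-!
# Inverse images of locally constant sheaves
-/

set_option backward.isDefEq.respectTransparency false
set_option backward.isDefEq.respectTransparency.types false

universe w u

open CategoryTheory CategoryTheory.Limits AlgebraicGeometry Opposite

namespace Groth.Agent.H18Et.LC

section General

variable {C D : Type*} [Category C] [Category D] {J : GrothendieckTopology C}
  {K : GrothendieckTopology D} (Φ : GrothendieckTopology.Point.{w} K) (F : C ⥤ D)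
  [RepresentablyFlat F] (hF : CoverPreserving J K F) [InitiallySmall (F ⋙ Φ.fiber).Elements]
  {A : Type*} [Category A] [HasProducts.{w} A] [Functor.IsContinuous F J K]
  [(F.sheafPushforwardContinuous A J K).IsRightAdjoint] [HasColimitsOfSize.{w, w} A]

theorem isIso_germ_unit {Ψ : GrothendieckTopology.Point.{w} J} (θ : Φ.comap F hF ≅ Ψ)
    (G : Sheaf J A) (U : C) (x : Φ.fiber.obj (F.obj U)) {M : A} (c : M ⟶ G.obj.obj (op U))
    (h : ∀ z : Ψ.fiber.obj U, IsIso (c ≫ Ψ.toPresheafFiber U z G.obj)) :
    IsIso ((c ≫ ((F.sheafAdjunctionContinuous A J K).unit.app G).hom.app (op U)) ≫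
      Φ.toPresheafFiber (F.obj U) x ((F.sheafPullback A J K).obj G).obj) := by
  have hz : θ.hom.hom.app U (θ.inv.hom.app U x) = x := by
    have := congrArg (fun k => GrothendieckTopology.Point.Hom.hom k) θ.hom_inv_id
    exact ConcreteCategory.congr_hom (congrArg (fun k => NatTrans.app k U) this) x
  have key := toPresheafFiber_hom_sheafFiberComapIso_hom Φ F hF A θ.hom G U (θ.inv.hom.app U x)
  rw [hz] at key
  rw [Category.assoc, ← key, ← Category.assoc]
  haveI := h (θ.inv.hom.app U x)
  haveI : IsIso (θ.hom.sheafFiber.app G : Ψ.sheafFiber.obj G ⟶ (Φ.comap F hF).sheafFiber.obj G) := by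
    refine ⟨θ.inv.sheafFiber.app G, ?_, ?_⟩
    · rw [← NatTrans.comp_app, ← GrothendieckTopology.Point.Hom.sheafFiber_comp, Iso.inv_hom_id,
        GrothendieckTopology.Point.Hom.sheafFiber_id]
      rfl
    · rw [← NatTrans.comp_app, ← GrothendieckTopology.Point.Hom.sheafFiber_comp, Iso.hom_inv_id,
        GrothendieckTopology.Point.Hom.sheafFiber_id]
      rfl
  infer_instance

end General

variable {X Y : Scheme.{u}}

theorem covers_bc (f : X ⟶ Y) {ι : Type u} {U : ι → Y.Etale} (h : EtCoh.Covers U) :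
    EtCoh.Covers fun i => (EtCoh.bc f).obj (U i) := by
  intro x
  obtain ⟨i, y, hy⟩ := h (f.base x)
  obtain ⟨z, -, hz⟩ := Scheme.Pullback.exists_preimage_pullback (f := (U i).hom) (g := f) y x hy
  exact ⟨i, z, hz⟩

variable {A : Type (u + 2)} [Category.{u + 1} A] [HasColimitsOfSize.{u, u} A] [HasProducts.{u} A]

theorem IsConstOn.pull (f : X ⟶ Y)
    [((EtCoh.bc f).sheafPushforwardContinuous A Y.smallEtaleTopology
      X.smallEtaleTopology).IsRightAdjoint]
    {F : Sheaf Y.smallEtaleTopology A} {U : Y.Etale} {M : A}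
    {c : M ⟶ F.obj.obj (op U)} (h : IsConstOn F U c) :
    IsConstOn (((EtCoh.bc f).sheafPullback A Y.smallEtaleTopology X.smallEtaleTopology).obj F)
      ((EtCoh.bc f).obj U)
      (c ≫ (((EtCoh.bc f).sheafAdjunctionContinuous A Y.smallEtaleTopology
        X.smallEtaleTopology).unit.app F).hom.app (op U)) := fun Ω _ _ ξ x =>
  isIso_germ_unit (Scheme.pointSmallEtale ξ) (EtCoh.bc f) (EtCoh.coverPreserving_bc f)
    (pointCompIso f ξ) F U x c (h Ω (ξ ≫ f))

end Groth.Agent.H18Et.LC
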