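import Groth.Agent.H18Et.Cons.Criteria

/-!
# Openness of the isomorphism locus of a section over a locally constant sheaf
-/

set_option backward.isDefEq.respectTransparency false
set_option backward.isDefEq.respectTransparency.types false

universe u

open CategoryTheory CategoryTheory.Limits AlgebraicGeometry Opposite

namespace Groth.Agent.H18Et.LC

open scoped Groth.Agent.H18Et

variable {X : Scheme.{u}} {Ω Ω' : Type u} [Field Ω] [IsSepClosed Ω] [Field Ω'] [IsSepClosed Ω']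

theorem natIso_inv_hom_apply {C : Type*} [Category C] {F G : C ⥤ Type u} (α : F ≅ G) (U : C) (z : G.obj U) :
    α.hom.app U (α.inv.app U z) = z :=
  ConcreteCategory.congr_hom (α.inv_hom_id_app U) z

theorem exists_fiberComp {T : Scheme.{u}} (g : T ⟶ X) (a : Spec (CommRingCat.of Ω) ⟶ T) (U : X.Etale)
    (z : (Scheme.pointSmallEtale (a ≫ g)).fiber.obj U) :
    ∃ z₁ : (Scheme.pointSmallEtale a).fiber.obj ((EtCoh.bc g).obj U),
      (fiberCompIso g a).hom.app U z₁ = z :=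
  ⟨_, natIso_inv_hom_apply (fiberCompIso g a) U z⟩

/-- Lifts of a geometric point along an etale map through a prescribed point. -/
theorem exists_fiber_map {ξ : Spec (CommRingCat.of Ω) ⟶ X} {U V : X.Etale} (g : V ⟶ U)
    (t : (Scheme.pointSmallEtale ξ).fiber.obj U) (v : V.left) (h : g.left v = ptOf t) :
    ∃ s, (Scheme.pointSmallEtale ξ).fiber.map g s = t ∧ ptOf s = v := by
  haveI : Etale U.hom := U.prop
  haveI : Etale V.hom := V.prop
  haveI : Etale (g.left ≫ U.hom) := (Over.w g.hom).symm ▸ V.prop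
  haveI : Etale g.left := Etale.of_comp g.left U.hom
  let V' : U.left.Etale := MorphismProperty.Over.mk ⊤ g.left inferInstance
  obtain ⟨s₀, hs₀⟩ := exists_fiber_over (U := V') v
    (t.left : Spec (CommRingCat.of Ω) ⟶ U.left) h.symm
  refine ⟨Over.homMk s₀.left ?_, ?_, hs₀⟩
  · exact (congrArg (s₀.left ≫ ·) (Over.w g.hom).symm).trans ((Category.assoc _ _ _).symm.trans
      ((congrArg (· ≫ U.hom) (Over.w s₀)).trans (Over.w t)))
  · exact Over.OverMorphism.ext (Over.w s₀)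

/-- The set of points of `P` where `c` is an isomorphism on all geometric stalks is a union of the
open sets on which the value is locally constant. -/
theorem exists_open_iso_or_not {G : EtCoh.Ab X} (hG : EtCoh.IsFiniteLocallyConstant G) {P : X.Etale}
    {M : AddCommGrpCat.{u + 1}} [Finite M] (c : M ⟶ G.obj.obj (op P)) (p : P.left) :
    ∃ O : Set P.left, IsOpen O ∧ p ∈ O ∧
      ((∀ (Ω : Type u) [Field Ω] [IsSepClosed Ω] (ξ : Spec (CommRingCat.of Ω) ⟶ X)
          (t : (Scheme.pointSmallEtale ξ).fiber.obj P), ptOf t ∈ O → IsIso (c ≫ germ ξ G P t)) ∨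
       (∀ (Ω : Type u) [Field Ω] [IsSepClosed Ω] (ξ : Spec (CommRingCat.of Ω) ⟶ X)
          (t : (Scheme.pointSmallEtale ξ).fiber.obj P), ptOf t ∈ O → ¬ IsIso (c ≫ germ ξ G P t))) := by
  classical
  obtain ⟨ι, U, hU, hd⟩ := (isFiniteLocallyConstant_iff G).1 hG
  obtain ⟨i, y, hy⟩ := hU (P.hom.base p)
  obtain ⟨N, -, d, hd⟩ := hd i
  obtain ⟨z, hz⟩ := exists_fiber_over p (geomPt (P.hom.base p)) (geomPt_base _)
  obtain ⟨b, -⟩ := exists_fiber_over y (geomPt (P.hom.base p)) ((geomPt_base _).trans hy.symm)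
  obtain ⟨W, q, r, w, hq, hr⟩ := exists_common (geomPt (P.hom.base p)) z b
  have h2 := hd.res r
  haveI := h2.isIso _ w
  let h : M ⟶ N := (c ≫ G.obj.map q.op) ≫ germ _ G W w ≫ inv ((d ≫ G.obj.map r.op) ≫ germ _ G W w)
  obtain ⟨W', g, w', hw', he⟩ := exists_hom_eq _ (fg_of_finite M) w (c ≫ G.obj.map q.op)
    (h ≫ d ≫ G.obj.map r.op) (by simp only [h, Category.assoc, IsIso.inv_hom_id, Category.comp_id])
  haveI : Etale P.hom := P.prop
  haveI : Etale ((g ≫ q).left ≫ P.hom) := (Over.w (g ≫ q).hom).symm ▸ W'.prop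
  haveI : Etale (g ≫ q).left := Etale.of_comp (g ≫ q).left P.hom
  refine ⟨Set.range (g ≫ q).left, (g ≫ q).left.isOpenMap.isOpen_range, ⟨ptOf w', ?_⟩, ?_⟩
  · rw [ptOf_map]
    refine Eq.trans (congrArg ptOf ?_) hz
    exact (ConcreteCategory.congr_hom ((Scheme.pointSmallEtale _).fiber.map_comp g q) w').trans
      ((ConcreteCategory.comp_apply _ _ _).trans ((congrArg _ hw').trans hq))
  · have key : ∀ (Ω : Type u) [Field Ω] [IsSepClosed Ω] (ξ : Spec (CommRingCat.of Ω) ⟶ X)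
        (t : (Scheme.pointSmallEtale ξ).fiber.obj P), ptOf t ∈ Set.range (g ≫ q).left →
        (IsIso (c ≫ germ ξ G P t) ↔ IsIso h) := by
      rintro Ω _ _ ξ t ⟨v, hv⟩
      obtain ⟨s, hs, -⟩ := exists_fiber_map (g ≫ q) t v hv
      haveI := (h2.res g).isIso ξ s
      have e : c ≫ germ ξ G P t = h ≫ ((d ≫ G.obj.map r.op) ≫ G.obj.map g.op) ≫ germ ξ G W' s := by
        rw [← hs, germ, ← GrothendieckTopology.Point.toPresheafFiber_w, op_comp, G.obj.map_comp]
        simp only [← Category.assoc] at he ⊢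
        rw [he]
      rw [e]
      exact ⟨fun _ => IsIso.of_isIso_comp_right h (((d ≫ G.obj.map r.op) ≫ G.obj.map g.op) ≫ germ ξ G W' s),
        fun _ => inferInstance⟩
    by_cases hh : IsIso h
    · exact Or.inl fun Ω _ _ ξ t ht => (key Ω ξ t ht).2 hh
    · exact Or.inr fun Ω _ _ ξ t ht => fun h' => hh ((key Ω ξ t ht).1 h')

theorem isIso_germ_pull_iff {T : Scheme.{u}} (g : T ⟶ X) (F : EtCoh.Ab X) {U : X.Etale}
    {M : AddCommGrpCat.{u + 1}} (c : M ⟶ F.obj.obj (op U)) (ξ : Spec (CommRingCat.of Ω) ⟶ T)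
    (t : (Scheme.pointSmallEtale ξ).fiber.obj ((EtCoh.bc g).obj U)) :
    IsIso ((c ≫ ((EtCoh.pullPushAdj g).unit.app F).hom.app (op U)) ≫
        germ ξ ((EtCoh.pull g).obj F) ((EtCoh.bc g).obj U) t) ↔
      IsIso (c ≫ germ (ξ ≫ g) F U ((fiberCompIso g ξ).hom.app U t)) := by
  have h := isIso_germ_unit_iff (Scheme.pointSmallEtale ξ) (EtCoh.bc g) (EtCoh.coverPreserving_bc g)
    (pointCompIso g ξ) F U t c
  have e : (pointCompIso g ξ).inv.hom.app U t = (fiberCompIso g ξ).hom.app U t := rfl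
  rw [e] at h
  exact h

/-- Specialisation maps are isomorphisms inside a stratum on which the sheaf is locally constant. -/
theorem isIso_specialization_of_pull {T : Scheme.{u}} (g : T ⟶ X) [IsPreimmersion g] (F : EtCoh.Ab X)
    (hF : EtCoh.IsFiniteLocallyConstant ((EtCoh.pull g).obj F))
    {ξ : Spec (CommRingCat.of Ω) ⟶ X} {ξ' : Spec (CommRingCat.of Ω') ⟶ X}
    (hξ : ξ.base default ∈ Set.range g) (hξ' : ξ'.base default ∈ Set.range g)
    (φ : Scheme.pointSmallEtale ξ' ⟶ Scheme.pointSmallEtale ξ) :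
    IsIso ((GrothendieckTopology.Point.Hom.sheafFiber (A := AddCommGrpCat.{u + 1}) φ).app F) := by
  obtain ⟨t₀, ht₀⟩ := hξ
  obtain ⟨a, rfl, -⟩ := exists_lift_geom g ξ t₀ ht₀
  obtain ⟨t₁, ht₁⟩ := hξ'
  obtain ⟨a', rfl, -⟩ := exists_lift_geom g ξ' t₁ ht₁
  obtain ⟨ι, U₀, hU₀, hd⟩ := (isFiniteLocallyConstant_iff _).1 hF
  obtain ⟨i, y, hy⟩ := hU₀ (a.base default)
  obtain ⟨N, hN, d, hd⟩ := hd i
  obtain ⟨eN⟩ := Cons.stalk_iso_of_flc F g hd y (a ≫ g)
    ((Scheme.Hom.comp_apply _ _ _).trans (congrArg g.base hy.symm))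
  haveI : Finite ((Scheme.pointSmallEtale (a ≫ g)).sheafFiber.obj F : AddCommGrpCat.{u + 1}) :=
    Finite.of_equiv N eN.symm.addCommGroupIsoToAddEquiv.toEquiv
  obtain ⟨e, -⟩ := exists_fiber_over (U := EtCoh.top X) ((a ≫ g).base default) (a ≫ g) rfl
  obtain ⟨U, -, z, -, c, hc⟩ := exists_hom_lift_ab (a ≫ g) F e _ (𝟙 _)
  obtain ⟨z₁, hz₁⟩ := exists_fiberComp g a U z
  obtain ⟨t₁', ht₁'⟩ := exists_fiberComp g a' U (φ.hom.app U z)
  obtain ⟨O, hO, hzO, h⟩ := exists_open_iso_or_not hF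
    (c ≫ ((EtCoh.pullPushAdj g).unit.app F).hom.app (op U)) (ptOf z₁)
  have hspec : ptOf t₁' ⤳ ptOf z₁ := by
    have hi : Topology.IsInducing
        (pullback.fst U.hom g : ((EtCoh.bc g).obj U).left ⟶ U.left) :=
      (pullback.fst U.hom g).isEmbedding.isInducing
    rw [← hi.specializes_iff, ← ptOf_fiberCompIso, ← ptOf_fiberCompIso, hz₁, ht₁']
    exact specializes_of_hom φ z
  have hcz : IsIso (c ≫ germ (a ≫ g) F U z) := by rw [hc]; exact IsIso.id _
  rcases h with h | h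
  · have := (isIso_germ_pull_iff g F c a' t₁').1 (h _ a' t₁' (hspec.mem_open hO hzO))
    rw [ht₁', ← germ_sheafFiber_hom φ F U z, ← Category.assoc] at this
    exact IsIso.of_isIso_comp_left (c ≫ germ (a ≫ g) F U z) _
  · exact absurd ((isIso_germ_pull_iff g F c a z₁).2 (hz₁.symm ▸ hcz)) (h _ a z₁ hzO)

end Groth.Agent.H18Et.LC
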