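import Groth.Agent.H18Et.LC.Criterion
import Groth.Prelude.Def_EtModW

/-!
# Stalk systems of locally constant sheaves on connected Noetherian schemes
-/

set_option backward.isDefEq.respectTransparency false
set_option backward.isDefEq.respectTransparency.types false

universe u

open CategoryTheory CategoryTheory.Limits AlgebraicGeometry Opposite

namespace Groth.Agent.H18Et.LC

open scoped Groth.Agent.H18Et

/-- On a connected Noetherian space, an equivalence relation containing specialisation is trivial. -/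
theorem rel_of_specializes {X : Type*} [TopologicalSpace X] [TopologicalSpace.NoetherianSpace X]
    [QuasiSober X] [PreconnectedSpace X] (R : X → X → Prop) (hR : Equivalence R)
    (h : ∀ x y, x ⤳ y → R x y) (x y : X) : R x y := by
  have key : ∀ z w : X, irreducibleComponent z = irreducibleComponent w → R z w := by
    intro z w e
    obtain ⟨η, hη⟩ := QuasiSober.sober (isIrreducible_irreducibleComponent (x := z))
      isClosed_irreducibleComponent
    refine hR.trans (hR.symm (h η z (hη.specializes mem_irreducibleComponent))) (h η w (hη.specializes ?_))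
    rw [e]; exact mem_irreducibleComponent
  have hmem : ∀ C ∈ irreducibleComponents X, ∀ a ∈ C, ∀ b ∈ C, R a b := by
    intro C hC a ha b hb
    obtain ⟨η, hη⟩ := QuasiSober.sober hC.1 (isClosed_of_mem_irreducibleComponents C hC)
    exact hR.trans (hR.symm (h η a (hη.specializes ha))) (h η b (hη.specializes hb))
  let S : Set X := {z | R x z}
  have hclosed : ∀ P : X → Prop, (∀ a b, R a b → P a → P b) → IsClosed {z | P z} := by
    intro P hP
    have e : {z | P z} = ⋃ C ∈ {C ∈ irreducibleComponents X | ∀ a ∈ C, P a}, C := by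
      refine Set.Subset.antisymm (fun z hz => Set.mem_biUnion (x := irreducibleComponent z)
        ⟨irreducibleComponent_mem_irreducibleComponents z, fun a ha => hP z a
          (hmem _ (irreducibleComponent_mem_irreducibleComponents z) z mem_irreducibleComponent a ha) hz⟩
        mem_irreducibleComponent) (Set.iUnion₂_subset fun C hC a ha => hC.2 a ha)
    rw [e]
    exact ((TopologicalSpace.NoetherianSpace.finite_irreducibleComponents).subset fun C h => h.1).isClosed_biUnion
      fun C hC => isClosed_of_mem_irreducibleComponents C hC.1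
  have hS : IsClopen S := by
    refine ⟨hclosed _ fun a b hab ha => hR.trans ha hab, isClosed_compl_iff.1 ?_⟩
    exact hclosed (fun z => ¬ R x z) fun a b hab ha hb => ha (hR.trans hb (hR.symm hab))
  have := hS.eq_univ ⟨x, hR.refl x⟩
  exact (this.symm ▸ Set.mem_univ y : y ∈ S)

variable {X : Scheme.{u}} (Λ : Type (u + 1)) [CommRing Λ]

theorem isIso_specialization_of_isFTLocConst {F : EtModW.Mod Λ X} (hF : EtModW.IsFTLocConst Λ F)
    {Ω Ω' : Type u} [Field Ω] [IsSepClosed Ω] [Field Ω'] [IsSepClosed Ω']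
    {ξ : Spec (CommRingCat.of Ω) ⟶ X} {ξ' : Spec (CommRingCat.of Ω') ⟶ X}
    (φ : Scheme.pointSmallEtale ξ' ⟶ Scheme.pointSmallEtale ξ) :
    IsIso ((GrothendieckTopology.Point.Hom.sheafFiber (A := ModuleCat.{u + 1} Λ) φ).app F) := by
  obtain ⟨ι, U, hU, hc⟩ := (isFTLocConst_iff Λ F).1 hF
  obtain ⟨i, y, hy⟩ := hU (ξ.base default)
  obtain ⟨z, -⟩ := exists_fiber_over y ξ hy.symm
  obtain ⟨M, -, c, hc⟩ := hc i
  exact hc.isIso_specialization φ z

variable {J : Type} [Category J] (F : J ⥤ EtModW.Mod Λ X)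
  (hF : ∀ j, EtModW.IsFTLocConst Λ (F.obj j))

include hF in
theorem nonempty_iso_of_specializes {Ω Ω' : Type u} [Field Ω] [IsSepClosed Ω] [Field Ω'] [IsSepClosed Ω']
    (ξ : Spec (CommRingCat.of Ω) ⟶ X) (ξ' : Spec (CommRingCat.of Ω') ⟶ X)
    (h : ξ'.base default ⤳ ξ.base default) :
    Nonempty ((F ⋙ EtModW.stalk Λ ξ) ≅ (F ⋙ EtModW.stalk Λ ξ')) := by
  obtain ⟨φ⟩ := exists_specialization ξ ξ' h
  haveI : ∀ j, IsIso ((Functor.whiskerLeft F
      (GrothendieckTopology.Point.Hom.sheafFiber (A := ModuleCat.{u + 1} Λ) φ)).app j) :=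
    fun j => isIso_specialization_of_isFTLocConst Λ (hF j) φ
  exact ⟨NatIso.ofComponents (fun j => asIso ((Functor.whiskerLeft F
      (GrothendieckTopology.Point.Hom.sheafFiber (A := ModuleCat.{u + 1} Λ) φ)).app j))
    fun {a b} g => (Functor.whiskerLeft F
      (GrothendieckTopology.Point.Hom.sheafFiber (A := ModuleCat.{u + 1} Λ) φ)).naturality g⟩

include hF in
theorem nonempty_iso_stalkSystems [IsNoetherian X] [ConnectedSpace X]
    {Ω Ω' : Type u} [Field Ω] [IsSepClosed Ω] [Field Ω'] [IsSepClosed Ω']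
    (ξ : Spec (CommRingCat.of Ω) ⟶ X) (ξ' : Spec (CommRingCat.of Ω') ⟶ X) :
    Nonempty ((F ⋙ EtModW.stalk Λ ξ) ≅ (F ⋙ EtModW.stalk Λ ξ')) := by
  let R : X → X → Prop := fun a b =>
    Nonempty ((F ⋙ EtModW.stalk Λ (geomPt a)) ≅ (F ⋙ EtModW.stalk Λ (geomPt b)))
  have hR : Equivalence R :=
    ⟨fun _ => ⟨Iso.refl _⟩, fun ⟨e⟩ => ⟨e.symm⟩, fun ⟨e⟩ ⟨e'⟩ => ⟨e ≪≫ e'⟩⟩
  have hs : ∀ a b : X, a ⤳ b → R a b := fun a b hab => by
    obtain ⟨e⟩ := nonempty_iso_of_specializes Λ F hF (geomPt b) (geomPt a)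
      (by rw [geomPt_base, geomPt_base]; exact hab)
    exact ⟨e.symm⟩
  obtain ⟨e₀⟩ := rel_of_specializes R hR hs (ξ.base default) (ξ'.base default)
  obtain ⟨e₁⟩ := nonempty_iso_of_specializes Λ F hF ξ (geomPt (ξ.base default))
    (by rw [geomPt_base])
  obtain ⟨e₂⟩ := nonempty_iso_of_specializes Λ F hF ξ' (geomPt (ξ'.base default))
    (by rw [geomPt_base])
  exact ⟨e₁ ≪≫ e₀ ≪≫ e₂.symm⟩

end Groth.Agent.H18Et.LC
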