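import Groth.Agent.H18Et.LC.AlgClosed
import Groth.Agent.H18Et.LC.Nbhd
import Groth.Agent.H18Et.FibreSections
import Groth.Agent.H25Constr.FinEt

/-!
# Direct images of finite locally constant sheaves along finite etale morphisms
-/

set_option backward.isDefEq.respectTransparency false
set_option backward.isDefEq.respectTransparency.types false

universe u

open CategoryTheory CategoryTheory.Limits AlgebraicGeometry Opposite

namespace Groth.Agent.H18Et.LC

open scoped Groth.Agent.H18Et

variable {X Y : Scheme.{u}} (f : X ⟶ Y) [Etale f]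

/-- An etale scheme over `Y` mapping to `X` as an etale scheme over `X`. -/
noncomputable def viaObj {W : Y.Etale} (c : W ⟶ Scheme.Etale.mk f) : X.Etale :=
  MorphismProperty.Over.mk ⊤ c.left (by
    haveI : Etale W.hom := W.prop
    haveI : Etale (c.left ≫ f) := (Over.w c.hom).symm ▸ W.prop
    exact Etale.of_comp c.left f)

/-- The section of the base change given by `c`. -/
noncomputable def viaHom {W : Y.Etale} (c : W ⟶ Scheme.Etale.mk f) :
    viaObj f c ⟶ (EtCoh.bc f).obj W :=
  MorphismProperty.Over.homMk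
    (pullback.lift (𝟙 W.left) c.left ((Category.id_comp _).trans (Over.w c.hom).symm))
    (pullback.lift_snd _ _ _) trivial

theorem viaHom_fst {W : Y.Etale} (c : W ⟶ Scheme.Etale.mk f) :
    (viaHom f c).left ≫ pullback.fst W.hom f = 𝟙 W.left :=
  pullback.lift_fst _ _ _

theorem viaHom_snd {W : Y.Etale} (c : W ⟶ Scheme.Etale.mk f) :
    (viaHom f c).left ≫ pullback.snd W.hom f = c.left :=
  pullback.lift_snd _ _ _

theorem viaHom_comp {W W' : Y.Etale} (k : W' ⟶ W) (c : W ⟶ Scheme.Etale.mk f)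
    (r : viaObj f (k ≫ c) ⟶ viaObj f c) (hr : r.left = k.left) :
    viaHom f (k ≫ c) ≫ (EtCoh.bc f).map k = r ≫ viaHom f c := by
  refine MorphismProperty.Over.Hom.ext (pullback.hom_ext ?_ ?_)
  · refine (Category.assoc _ _ _).trans ((congrArg ((viaHom f (k ≫ c)).left ≫ ·)
      (EtCoh.isPullback_bc_map f k).w).trans ?_)
    refine (Category.assoc _ _ _).symm.trans (((congrArg (· ≫ k.left) (viaHom_fst f (k ≫ c))).trans
      (Category.id_comp k.left)).trans ?_)
    exact hr.symm.trans ((Category.comp_id r.left).symm.trans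
      ((congrArg (r.left ≫ ·) (viaHom_fst f c).symm).trans (Category.assoc _ _ _).symm))
  · refine (Category.assoc _ _ _).trans ((congrArg ((viaHom f (k ≫ c)).left ≫ ·)
      (Over.w ((EtCoh.bc f).map k).hom)).trans ((viaHom_snd f (k ≫ c)).trans ?_))
    exact (congrArg (· ≫ c.left) hr.symm).trans
      ((congrArg (r.left ≫ ·) (viaHom_snd f c).symm).trans (Category.assoc _ _ _).symm)

theorem map_viaHom_comp {C : Type (u + 2)} [Category.{u + 1} C] (F : X.Etaleᵒᵖ ⥤ C) {W W' : Y.Etale}
    (k : W' ⟶ W) (c : W ⟶ Scheme.Etale.mk f) {c₂ : W' ⟶ Scheme.Etale.mk f} (hc₂ : c₂ = k ≫ c)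
    (r : viaObj f c₂ ⟶ viaObj f c) (hr : r.left = k.left) :
    F.map ((EtCoh.bc f).map k).op ≫ F.map (viaHom f c₂).op =
      F.map (viaHom f c).op ≫ F.map r.op := by
  subst hc₂
  rw [← F.map_comp, ← F.map_comp, ← op_comp, ← op_comp, viaHom_comp f k c r hr]

variable {Ω : Type u} [Field Ω] [IsAlgClosed Ω] {η : Spec (CommRingCat.of Ω) ⟶ Y}

/-- The fibre element of `viaObj` over a point of the fibre hit by `c`. -/
theorem exists_viaPt [IsIntegralHom f] {W : Y.Etale} (c : W ⟶ Scheme.Etale.mk f)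
    (v : (Scheme.pointSmallEtale η).fiber.obj W) (ξ : Pts f η) (h : v.left ≫ c.left = ξ.1) :
    ∃ y : (Scheme.pointSmallEtale ξ.1).fiber.obj (viaObj f c),
      y.left = v.left ∧ (Scheme.pointSmallEtale ξ.1).fiber.map (viaHom f c) y = bcPt ξ W v := by
  refine ⟨Over.homMk v.left h, rfl, Over.OverMorphism.ext (pullback.hom_ext ?_ ?_)⟩
  · refine (Category.assoc _ _ _).trans ((congrArg (v.left ≫ ·) (viaHom_fst f c)).trans
      ((Category.comp_id v.left).trans ?_))
    exact ((Category.assoc _ _ _).trans ((congrArg (secPt ξ ≫ ·) (ιFib_fst W v)).trans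
      ((Category.assoc _ _ _).symm.trans ((congrArg (· ≫ v.left) (pullback.lift_snd _ _ _)).trans
        (Category.id_comp _))))).symm
  · refine (Category.assoc _ _ _).trans ((congrArg (v.left ≫ ·) (viaHom_snd f c)).trans (h.trans ?_))
    exact ((Category.assoc _ _ _).trans ((congrArg (secPt ξ ≫ ·) (ιFib_snd W v)).trans
      (pullback.lift_fst _ _ _))).symm

theorem isFiniteLocallyConstant_push [IsFinite f] (F : EtCoh.Ab X)
    (hF : EtCoh.IsFiniteLocallyConstant F) :
    EtCoh.IsFiniteLocallyConstant ((EtCoh.push f).obj F) := by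
  obtain ⟨ι, U, hU, hd⟩ := (isFiniteLocallyConstant_iff F).1 hF
  have key : ∀ y : Y, ∃ (W : Y.Etale) (w : W.left), W.hom.base w = y ∧
      ∃ (M : AddCommGrpCat.{u + 1}) (_ : Finite M) (C : M ⟶ ((EtCoh.push f).obj F).obj.obj (op W)),
        IsConstOn ((EtCoh.push f).obj F) W C := by
    intro y
    let η₀ : Spec (CommRingCat.of (AlgebraicClosure (Y.residueField y))) ⟶ Y :=
      (Scheme.SpecToEquivOfField (AlgebraicClosure (Y.residueField y)) Y).symm
        ⟨y, CommRingCat.ofHom (algebraMap (Y.residueField y) _)⟩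
    have hη₀ : η₀.base default = y := by simp [η₀, Scheme.SpecToEquivOfField]
    obtain ⟨V, n, c, ⟨v₀, hv₀⟩, hc⟩ := Groth.Agent.H25Constr.exists_sections X f y
    obtain ⟨v, -⟩ := exists_fiber_over v₀ η₀ (hη₀.trans hv₀.symm)
    -- the fibre over `η₀`
    haveI : Finite (Pts f η₀) := finite_pts f η₀
    have hpts : ∀ ξ : Pts f η₀, ∃ i, v.left ≫ (c i).left = ξ.1 := fun ξ => by
      obtain ⟨i, hi⟩ := (hc _ η₀ v).2 (Over.homMk ξ.1 ξ.2)
      exact ⟨i, congrArg (fun k => k.left) hi⟩
    choose idx hidx using hpts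
    let xi : Fin n → Pts f η₀ := fun i => ⟨v.left ≫ (c i).left,
      (Category.assoc _ _ _).trans ((congrArg (v.left ≫ ·) (Over.w (c i).hom)).trans (Over.w v))⟩
    -- the stalk
    have hM : Finite ((Scheme.pointSmallEtale η₀).sheafFiber.obj ((EtCoh.push f).obj F) :
        AddCommGrpCat.{u + 1}) := by
      haveI : ∀ ξ : Pts f η₀, Finite ((Scheme.pointSmallEtale ξ.1).sheafFiber.obj F : AddCommGrpCat.{u + 1}) := by
        intro ξ
        obtain ⟨i, u, hu⟩ := hU (ξ.1.base default)
        obtain ⟨a, -⟩ := exists_fiber_over u ξ.1 hu.symm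
        obtain ⟨N, hN, d, hd⟩ := hd i
        haveI := hd.isIso ξ.1 a
        exact Finite.of_equiv N (asIso (d ≫ germ ξ.1 F (U i) a)).addCommGroupIsoToAddEquiv.toEquiv
      exact Finite.of_injective (fun a (ξ : Pts f η₀) => (pushEval ξ).app F a) fun a b hab =>
        pushEval_jointly_injective F a b (congrFun hab)
    haveI := hM
    obtain ⟨W, g, w, hgw, C, hC⟩ := exists_hom_lift_ab η₀ ((EtCoh.push f).obj F) v _ (𝟙 _)
    let c' : Fin n → (W ⟶ Scheme.Etale.mk f) := fun i => g ≫ c i
    let Ci : ∀ i, (Scheme.pointSmallEtale η₀).sheafFiber.obj ((EtCoh.push f).obj F) ⟶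
        F.obj.obj (op (viaObj f (c' i))) := fun i => C ≫ F.obj.map (viaHom f (c' i)).op
    -- compare with constant values near each point of the fibre
    let P : Fin n → ∀ (W' : Y.Etale), (W' ⟶ W) → (Scheme.pointSmallEtale η₀).fiber.obj W' → Prop :=
      fun i W' k _ => ∃ (N : AddCommGrpCat.{u + 1})
        (d : N ⟶ F.obj.obj (op (viaObj f (k ≫ c' i))))
        (h : (Scheme.pointSmallEtale η₀).sheafFiber.obj ((EtCoh.push f).obj F) ⟶ N),
        IsConstOn F (viaObj f (k ≫ c' i)) d ∧
          (C ≫ ((EtCoh.push f).obj F).obj.map k.op) ≫ F.obj.map (viaHom f (k ≫ c' i)).op = h ≫ d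
    obtain ⟨W', k, w', hw', hP⟩ := exists_nbhd_forall η₀ w (Finset.univ : Finset (Fin n)) P
      (fun i W₁ k₁ W₂ l _ ⟨N, d, h, hd, he⟩ => by
        let r : viaObj f ((l ≫ k₁) ≫ c' i) ⟶ viaObj f (k₁ ≫ c' i) :=
          MorphismProperty.Over.homMk l.left (Category.assoc l.left k₁.left (c' i).left).symm trivial
        refine ⟨N, d ≫ F.obj.map r.op, h, hd.res r, ?_⟩
        have hre := map_viaHom_comp f F.obj l (k₁ ≫ c' i) (Category.assoc l k₁ (c' i)) r rfl
        calc (C ≫ ((EtCoh.push f).obj F).obj.map (l ≫ k₁).op) ≫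
              F.obj.map (viaHom f ((l ≫ k₁) ≫ c' i)).op
            = ((C ≫ ((EtCoh.push f).obj F).obj.map k₁.op) ≫ F.obj.map ((EtCoh.bc f).map l).op) ≫
              F.obj.map (viaHom f ((l ≫ k₁) ≫ c' i)).op := by
                rw [op_comp, Functor.map_comp, ← Category.assoc]
                rfl
          _ = ((C ≫ ((EtCoh.push f).obj F).obj.map k₁.op) ≫ F.obj.map (viaHom f (k₁ ≫ c' i)).op) ≫
              F.obj.map r.op := by
                exact (Category.assoc _ _ _).trans ((congrArg (_ ≫ ·) hre).trans (Category.assoc _ _ _).symm)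
          _ = h ≫ d ≫ F.obj.map r.op := (congrArg (· ≫ F.obj.map r.op) he).trans (Category.assoc _ _ _)) fun i _ => by
      let ξ := xi i
      obtain ⟨z, hz, -⟩ := exists_viaPt f (c' i) w ξ (by
        change w.left ≫ g.left ≫ (c i).left = v.left ≫ (c i).left
        rw [← Category.assoc]
        exact congrArg (· ≫ (c i).left) (congrArg (fun q => q.left) hgw))
      obtain ⟨j, u, hu⟩ := hU (ξ.1.base default)
      obtain ⟨a, -⟩ := exists_fiber_over u ξ.1 hu.symm
      obtain ⟨N, hN, d, hd⟩ := hd j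
      obtain ⟨Z, p, q, e, hp, hq⟩ := exists_common ξ.1 z a
      have h2 := hd.res q
      haveI := h2.isIso ξ.1 e
      let h := Ci i ≫ F.obj.map p.op ≫ germ ξ.1 F Z e ≫ inv ((d ≫ F.obj.map q.op) ≫ germ ξ.1 F Z e)
      obtain ⟨Z', r, e', he', heq⟩ := exists_hom_eq ξ.1 (fg_of_finite _) e (Ci i ≫ F.obj.map p.op)
        (h ≫ d ≫ F.obj.map q.op) (by simp only [h, Category.assoc, IsIso.inv_hom_id, Category.comp_id])
      haveI : Etale Z'.hom := Z'.prop
      let W' : Y.Etale := MorphismProperty.Over.mk ⊤ (Z'.hom ≫ f) (inferInstanceAs (Etale _))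
      let k : W' ⟶ W := MorphismProperty.Over.homMk (r ≫ p).left (by
        change (r ≫ p).left ≫ W.hom = Z'.hom ≫ f
        exact (congrArg ((r ≫ p).left ≫ ·) (Over.w (c' i).hom)).symm.trans
          ((Category.assoc _ _ _).symm.trans (congrArg (· ≫ f) (Over.w (r ≫ p).hom)))) trivial
      let w' : (Scheme.pointSmallEtale η₀).fiber.obj W' := Over.homMk e'.left
        ((Category.assoc _ _ _).symm.trans ((congrArg (· ≫ f) (Over.w e')).trans ξ.2))
      have hk : k.left ≫ (c' i).left = Z'.hom := Over.w (r ≫ p).hom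
      let s : viaObj f (k ≫ c' i) ⟶ Z' :=
        MorphismProperty.Over.homMk (𝟙 Z'.left) ((Category.id_comp _).trans hk.symm) trivial
      refine ⟨W', k, w', ?_, N, (d ≫ F.obj.map q.op) ≫ F.obj.map r.op ≫ F.obj.map s.op, h,
        by simpa only [Category.assoc] using ((h2.res r).res s), ?_⟩
      · refine Over.OverMorphism.ext ?_
        change e'.left ≫ r.left ≫ p.left = w.left
        rw [← Category.assoc]
        exact ((congrArg (· ≫ p.left) (congrArg (fun q => q.left) he')).trans
          (congrArg (fun q => q.left) hp)).trans hz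
      · have hs := map_viaHom_comp f F.obj k (c' i) rfl (s ≫ r ≫ p) (Category.id_comp _)
        calc (C ≫ ((EtCoh.push f).obj F).obj.map k.op) ≫ F.obj.map (viaHom f (k ≫ c' i)).op
            = C ≫ F.obj.map (viaHom f (c' i)).op ≫ F.obj.map (s ≫ r ≫ p).op :=
              (Category.assoc _ _ _).trans (congrArg (C ≫ ·) hs)
          _ = ((Ci i ≫ F.obj.map p.op) ≫ F.obj.map r.op) ≫ F.obj.map s.op := by
              simp only [Ci, op_comp, Functor.map_comp, Category.assoc]
          _ = ((h ≫ d ≫ F.obj.map q.op) ≫ F.obj.map r.op) ≫ F.obj.map s.op :=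
              congrArg (· ≫ F.obj.map s.op) heq
          _ = _ := by simp only [Category.assoc]
    choose N d h hd he using fun i => hP i (Finset.mem_univ i)
    refine ⟨W', ptOf w', (ptOf_base w').trans hη₀, _, hM, C ≫ ((EtCoh.push f).obj F).obj.map k.op,
      isConstOn_of_algClosed _ ?_⟩
    -- the evaluations at the points of a fibre
    have eval : ∀ (Ω : Type u) [Field Ω] [IsAlgClosed Ω] (η : Spec (CommRingCat.of Ω) ⟶ Y)
        (t : (Scheme.pointSmallEtale η).fiber.obj W') (ξ : Pts f η) (i : Fin n),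
        t.left ≫ (k ≫ c' i).left = ξ.1 →
        ∃ b, IsIso (d i ≫ germ ξ.1 F (viaObj f (k ≫ c' i)) b) ∧ ∀ m,
          (pushEval ξ).app F (germ η ((EtCoh.push f).obj F) W' t
            ((C ≫ ((EtCoh.push f).obj F).obj.map k.op) m)) =
          (d i ≫ germ ξ.1 F (viaObj f (k ≫ c' i)) b) (h i m) := by
      intro Ω _ _ η t ξ i hi
      obtain ⟨b, -, hb⟩ := exists_viaPt f (k ≫ c' i) t ξ hi
      refine ⟨b, hd i _ ξ.1 b, fun m => ?_⟩
      rw [pushEval_germ, ← hb]
      refine ((Scheme.pointSmallEtale ξ.1).toPresheafFiber_w_apply _ b F.obj _).symm.trans ?_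
      refine Eq.trans ?_ (ConcreteCategory.comp_apply _ _ _).symm
      refine congrArg _ ?_
      exact ((ConcreteCategory.comp_apply _ _ _).symm.trans
        (ConcreteCategory.congr_hom (he i) m)).trans (ConcreteCategory.comp_apply _ _ _)
    have hbij : ∀ (Ω : Type u) [Field Ω] [IsAlgClosed Ω] (η : Spec (CommRingCat.of Ω) ⟶ Y)
        (t : (Scheme.pointSmallEtale η).fiber.obj W'),
        Function.Bijective fun i : Fin n => (Scheme.pointSmallEtale η).fiber.map (k ≫ c' i) t := by
      intro Ω _ _ η t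
      have e : (fun i : Fin n => (Scheme.pointSmallEtale η).fiber.map (k ≫ c' i) t) =
          fun i => (Scheme.pointSmallEtale η).fiber.map (c i)
            ((Scheme.pointSmallEtale η).fiber.map (k ≫ g) t) := funext fun i => by
        rw [← fiber_map_map (Scheme.pointSmallEtale η).fiber, fiber_map_map (Scheme.pointSmallEtale η).fiber,
          fiber_map_map (Scheme.pointSmallEtale η).fiber, Category.assoc]
      rw [e]
      exact hc _ η _
    have hh : Function.Bijective fun m i => h i m := by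
      have h0 : C ≫ ((EtCoh.push f).obj F).obj.map k.op ≫ germ η₀ ((EtCoh.push f).obj F) W' w' = 𝟙 _ := by
        rw [germ, GrothendieckTopology.Point.toPresheafFiber_w, hw', hC]
      have hh0 : ∀ m, germ η₀ ((EtCoh.push f).obj F) W' w'
          ((C ≫ ((EtCoh.push f).obj F).obj.map k.op) m) = m := fun m => by
        rw [← ConcreteCategory.comp_apply, Category.assoc, h0]
        exact ConcreteCategory.id_apply m
      refine ⟨fun m m' e => ?_, fun s => ?_⟩
      · refine pushEval_jointly_injective F m m' fun ξ => ?_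
        obtain ⟨i, hi⟩ := (hbij _ η₀ w').2 (Over.homMk ξ.1 ξ.2)
        obtain ⟨b, -, hb⟩ := eval _ η₀ w' ξ i (congrArg (fun q => q.left) hi)
        have h1 := hb m
        have h2 := hb m'
        rw [hh0] at h1 h2
        rw [h1, h2]
        exact congrArg _ (congrFun e i)
      · have hpt : ∀ ξ : Pts f η₀, ∃ i, w'.left ≫ (k ≫ c' i).left = ξ.1 := fun ξ => by
          obtain ⟨i, hi⟩ := (hbij _ η₀ w').2 (Over.homMk ξ.1 ξ.2)
          exact ⟨i, congrArg (fun q => q.left) hi⟩
        choose j hj using hpt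
        choose b hb₁ hb₂ using fun ξ => eval _ η₀ w' ξ (j ξ) (hj ξ)
        obtain ⟨m, hm⟩ := exists_pushEval_eq_of_finite F
          fun ξ => (d (j ξ) ≫ germ ξ.1 F (viaObj f (k ≫ c' (j ξ))) (b ξ)) (s (j ξ))
        refine ⟨m, funext fun i => ?_⟩
        let ξ : Pts f η₀ := ⟨w'.left ≫ (k ≫ c' i).left, (Category.assoc _ _ _).trans
          ((congrArg (w'.left ≫ ·) (Over.w (k ≫ c' i).hom)).trans (Over.w w'))⟩
        have hij : j ξ = i := (hbij _ η₀ w').1 (Over.OverMorphism.ext (hj ξ))
        have h1 := hm ξ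
        have h2 := hb₂ ξ m
        rw [hh0] at h2
        have h3 := (haveI := hb₁ ξ; ConcreteCategory.bijective_of_isIso _).1 (h2.symm.trans h1)
        rw [hij] at h3
        exact h3
    intro Ω _ _ η t
    rw [ConcreteCategory.isIso_iff_bijective]
    haveI : Finite (Pts f η) := finite_pts f η
    refine ⟨fun m m' e => ?_, fun a => ?_⟩
    · refine hh.1 (funext fun i => ?_)
      let ξ : Pts f η := ⟨t.left ≫ (k ≫ c' i).left, (Category.assoc _ _ _).trans
        ((congrArg (t.left ≫ ·) (Over.w (k ≫ c' i).hom)).trans (Over.w t))⟩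
      obtain ⟨b, hb₁, hb⟩ := eval _ η t ξ i rfl
      have e' := congrArg ((pushEval ξ).app F) e
      rw [ConcreteCategory.comp_apply, ConcreteCategory.comp_apply] at e'
      exact (ConcreteCategory.bijective_of_isIso _).1 (((hb m).symm.trans e').trans (hb m'))
    · have hs : ∀ i, ∃ s, ∀ (ξ : Pts f η) (hi : t.left ≫ (k ≫ c' i).left = ξ.1),
          (d i ≫ germ ξ.1 F (viaObj f (k ≫ c' i)) (Classical.choose (eval _ η t ξ i hi))) s =
            (pushEval ξ).app F a := by
        intro i
        let ξ : Pts f η := ⟨t.left ≫ (k ≫ c' i).left, (Category.assoc _ _ _).trans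
          ((congrArg (t.left ≫ ·) (Over.w (k ≫ c' i).hom)).trans (Over.w t))⟩
        haveI := (Classical.choose_spec (eval _ η t ξ i rfl)).1
        obtain ⟨s, hs⟩ := (ConcreteCategory.bijective_of_isIso
          (d i ≫ germ ξ.1 F (viaObj f (k ≫ c' i)) (Classical.choose (eval _ η t ξ i rfl)))).2
          ((pushEval ξ).app F a)
        refine ⟨s, fun ξ' hi => ?_⟩
        obtain rfl : ξ' = ξ := Subtype.ext hi.symm
        exact hs
      choose s hs using hs
      obtain ⟨m, hm⟩ := hh.2 s
      refine ⟨m, pushEval_jointly_injective F _ _ fun ξ => ?_⟩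
      obtain ⟨i, hi⟩ := (hbij _ η t).2 (Over.homMk ξ.1 ξ.2)
      have hi' : t.left ≫ (k ≫ c' i).left = ξ.1 := congrArg (fun q => q.left) hi
      rw [ConcreteCategory.comp_apply, (Classical.choose_spec (eval _ η t ξ i hi')).2 m,
        show h i m = s i from congrFun hm i, hs i ξ hi']
  choose W w hw M hM C hC using key
  exact (isFiniteLocallyConstant_iff _).2 ⟨Y, W, fun y => ⟨y, w y, hw y⟩, fun y => ⟨M y, hM y, C y, hC y⟩⟩

end Groth.Agent.H18Et.LC
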