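import Groth.Agent.H18Et.LC.Specialize
import Mathlib.AlgebraicGeometry.Morphisms.Flat
import Mathlib.FieldTheory.IsAlgClosed.AlgebraicClosure

/-!
# Geometric points with algebraically closed fields suffice
-/

set_option backward.isDefEq.respectTransparency false
set_option backward.isDefEq.respectTransparency.types false

universe u

open CategoryTheory CategoryTheory.Limits AlgebraicGeometry Opposite

namespace Groth.Agent.H18Et.LC

open scoped Groth.Agent.H18Et

variable {S : Scheme.{u}} {Ω Ω' : Type u} [Field Ω] [IsSepClosed Ω] [Field Ω'] [IsSepClosed Ω']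

/-- The morphism of points given by a map of fields. -/
noncomputable def pointHomOfPre (pre : Spec (CommRingCat.of Ω') ⟶ Spec (CommRingCat.of Ω))
    (ξ : Spec (CommRingCat.of Ω) ⟶ S) :
    Scheme.pointSmallEtale (pre ≫ ξ) ⟶ Scheme.pointSmallEtale ξ :=
  ⟨{ app := fun U => ↾(fun u => Over.homMk (pre ≫ u.left)
        ((Category.assoc _ _ _).trans (congrArg (pre ≫ ·) (Over.w u))))
     naturality := fun U W g => by
       ext u
       exact Over.OverMorphism.ext (Category.assoc _ _ _).symm }⟩

theorem bijective_pointHomOfPre (pre : Spec (CommRingCat.of Ω') ⟶ Spec (CommRingCat.of Ω))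
    (ξ : Spec (CommRingCat.of Ω) ⟶ S) (U : S.Etale) :
    Function.Bijective ((pointHomOfPre pre ξ).hom.app U) := by
  haveI : Subsingleton ↥(Spec (CommRingCat.of Ω)) := inferInstanceAs (Subsingleton (PrimeSpectrum _))
  haveI : Subsingleton ↥(Spec (CommRingCat.of Ω')) := inferInstanceAs (Subsingleton (PrimeSpectrum _))
  haveI hflat : Flat pre := by
    rw [← Spec.map_preimage pre, HasRingHomProperty.Spec_iff (P := @Flat)]
    letI := (Spec.preimage pre).hom.toAlgebra
    exact (inferInstance : Module.Flat Ω Ω')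
  haveI : Surjective pre := ⟨fun y => ⟨default, Subsingleton.elim _ _⟩⟩
  haveI := Flat.epi_of_flat_of_surjective pre
  refine ⟨fun u u' h => Over.OverMorphism.ext ((cancel_epi pre).1 (congrArg (fun k => k.left) h)),
    fun z => ?_⟩
  haveI : Etale U.hom := U.prop
  let B := pullback U.hom ξ
  let zb : Spec (CommRingCat.of Ω') ⟶ B := pullback.lift z.left pre (Over.w z)
  let π : B ⟶ Spec (CommRingCat.of Ω) := pullback.snd U.hom ξ
  haveI : Etale π := MorphismProperty.pullback_snd _ _ inferInstance
  let Q : (Spec (CommRingCat.of Ω)).Etale := MorphismProperty.Over.mk ⊤ π inferInstance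
  obtain ⟨s, hs⟩ := exists_fiber_over (U := Q) (zb.base default)
    (𝟙 (Spec (CommRingCat.of Ω))) (Subsingleton.elim _ _)
  have hsec : s.left ≫ π = 𝟙 _ := Over.w s
  haveI : Etale (s.left ≫ π) := by rw [hsec]; exact MorphismProperty.id_mem _ _
  haveI : Etale s.left := Etale.of_comp s.left π
  haveI : IsSplitMono s.left := IsSplitMono.mk' ⟨π, hsec⟩
  haveI := TopInv.isOpenImmersion_of_etale_of_universallyInjective s.left
  have hr : Set.range zb ⊆ Set.range s.left := by
    rintro _ ⟨y, rfl⟩
    rw [Subsingleton.elim y default]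
    exact ⟨(default : ↥(Spec (CommRingCat.of Ω))), hs⟩
  have hl := IsOpenImmersion.lift_fac s.left zb hr
  have hpre : IsOpenImmersion.lift s.left zb hr = pre := by
    have h := congrArg (· ≫ π) hl
    simp only [Category.assoc] at h
    rw [hsec, Category.comp_id] at h
    exact h.trans (pullback.lift_snd _ _ _)
  refine ⟨Over.homMk (s.left ≫ pullback.fst U.hom ξ) ?_, Over.OverMorphism.ext ?_⟩
  · refine (Category.assoc _ _ _).trans ((congrArg (_ ≫ ·) pullback.condition).trans ?_)
    exact (Category.assoc _ _ _).symm.trans ((congrArg (· ≫ ξ) hsec).trans (Category.id_comp ξ))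
  · change pre ≫ s.left ≫ pullback.fst U.hom ξ = z.left
    exact ((congrArg (· ≫ s.left ≫ pullback.fst U.hom ξ) hpre.symm).trans
      ((Category.assoc _ _ _).symm.trans (congrArg (· ≫ pullback.fst U.hom ξ) hl))).trans
        (pullback.lift_fst _ _ _)

theorem isIso_sheafFiber_pointHomOfPre {A : Type (u + 2)} [Category.{u + 1} A] [HasColimitsOfSize.{u, u} A]
    (pre : Spec (CommRingCat.of Ω') ⟶ Spec (CommRingCat.of Ω)) (ξ : Spec (CommRingCat.of Ω) ⟶ S)
    (F : Sheaf S.smallEtaleTopology A) :
    IsIso ((GrothendieckTopology.Point.Hom.sheafFiber (A := A) (pointHomOfPre pre ξ)).app F) := by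
  haveI : ∀ U, IsIso ((pointHomOfPre pre ξ).hom.app U) := fun U =>
    (isIso_iff_bijective _).2 (bijective_pointHomOfPre pre ξ U)
  haveI : IsIso (pointHomOfPre pre ξ).hom := NatIso.isIso_of_isIso_app _
  haveI : IsIso (pointHomOfPre pre ξ) :=
    ⟨⟨inv (pointHomOfPre pre ξ).hom⟩, GrothendieckTopology.Point.hom_ext (IsIso.inv_hom_id _),
      GrothendieckTopology.Point.hom_ext (IsIso.hom_inv_id _)⟩
  refine ⟨(GrothendieckTopology.Point.Hom.sheafFiber (A := A) (inv (pointHomOfPre pre ξ))).app F, ?_, ?_⟩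
  · rw [← NatTrans.comp_app, ← GrothendieckTopology.Point.Hom.sheafFiber_comp, IsIso.inv_hom_id,
      GrothendieckTopology.Point.Hom.sheafFiber_id]
    rfl
  · rw [← NatTrans.comp_app, ← GrothendieckTopology.Point.Hom.sheafFiber_comp, IsIso.hom_inv_id,
      GrothendieckTopology.Point.Hom.sheafFiber_id]
    rfl

theorem isConstOn_of_algClosed {A : Type (u + 2)} [Category.{u + 1} A] [HasColimitsOfSize.{u, u} A]
    {F : Sheaf S.smallEtaleTopology A} {U : S.Etale} {M : A} (c : M ⟶ F.obj.obj (op U))
    (h : ∀ (Ω : Type u) [Field Ω] [IsAlgClosed Ω] (ξ : Spec (CommRingCat.of Ω) ⟶ S)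
      (t : (Scheme.pointSmallEtale ξ).fiber.obj U), IsIso (c ≫ germ ξ F U t)) : IsConstOn F U c := by
  intro Ω _ _ ξ t
  let pre : Spec (CommRingCat.of (AlgebraicClosure Ω)) ⟶ Spec (CommRingCat.of Ω) :=
    Spec.map (CommRingCat.ofHom (algebraMap Ω (AlgebraicClosure Ω)))
  haveI := isIso_sheafFiber_pointHomOfPre pre ξ F
  exact (isIso_germ_of_specialization c (pointHomOfPre pre ξ) t).2
    (h _ (pre ≫ ξ) ((pointHomOfPre pre ξ).hom.app U t))

end Groth.Agent.H18Et.LC
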