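import Groth.Agent.H18Et.LC.Nbhd
import Mathlib.CategoryTheory.Limits.Preserves.Shapes.Kernels
import Mathlib.Algebra.Homology.ShortComplex.ShortExact

/-!
# Kernels, cokernels and extensions of locally constant sheaves
-/

set_option backward.isDefEq.respectTransparency false
set_option backward.isDefEq.respectTransparency.types false

universe u

open CategoryTheory CategoryTheory.Limits AlgebraicGeometry Opposite

namespace Groth.Agent.H18Et.LC

open scoped Groth.Agent.H18Et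

set_option linter.unusedSectionVars false

variable {X : Scheme.{u}} {A : Type (u + 2)} [Category.{u + 1} A] [Abelian A]
  [HasColimitsOfSize.{u, u} A] [HasProducts.{u} A]
  [HasSheafify X.smallEtaleTopology A] [AB5OfSize.{u, u} A]
  [∀ (Φ : GrothendieckTopology.Point.{u} X.smallEtaleTopology),
    PreservesFiniteLimits (Φ.sheafFiber (A := A))]
  [∀ (Φ : GrothendieckTopology.Point.{u} X.smallEtaleTopology),
    PreservesFiniteColimits (Φ.sheafFiber (A := A))]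

instance sheafFiber_preservesZero (Φ : GrothendieckTopology.Point.{u} X.smallEtaleTopology) :
    (Φ.sheafFiber (A := A)).PreservesZeroMorphisms :=
  Functor.preservesZeroMorphisms_of_preserves_initial_object

theorem exists_kernel {F G : Sheaf X.smallEtaleTopology A} (φ : F ⟶ G) {V : X.Etale} {M N : A}
    {c : M ⟶ F.obj.obj (op V)} (hc : IsConstOn F V c) {d : N ⟶ G.obj.obj (op V)}
    (hd : IsConstOn G V d) (h : M ⟶ N) (e : c ≫ φ.hom.app (op V) = h ≫ d) :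
    ∃ k : kernel h ⟶ (kernel φ).obj.obj (op V), IsConstOn (kernel φ) V k := by
  let S := sheafToPresheaf X.smallEtaleTopology A ⋙ (evaluation _ A).obj (op V)
  haveI : S.PreservesZeroMorphisms := ⟨fun _ _ => rfl⟩
  refine ⟨kernel.map h (S.map φ) c d e.symm ≫ (PreservesKernel.iso S φ).inv, fun Ω _ _ ξ x => ?_⟩
  haveI := hc Ω ξ x
  haveI := hd Ω ξ x
  let P := (Scheme.pointSmallEtale ξ).sheafFiber (A := A)
  have eq : h ≫ (d ≫ germ ξ G V x) = (c ≫ germ ξ F V x) ≫ P.map φ := by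
    rw [← Category.assoc, ← e, Category.assoc, Category.assoc]
    exact congrArg (c ≫ ·) ((Scheme.pointSmallEtale ξ).toPresheafFiber_naturality φ.hom V x).symm
  have key : ((kernel.map h (S.map φ) c d e.symm ≫ (PreservesKernel.iso S φ).inv) ≫
      germ ξ (kernel φ) V x) ≫ (PreservesKernel.iso P φ).hom =
        kernel.map h (P.map φ) (c ≫ germ ξ F V x) (d ≫ germ ξ G V x) eq := by
    refine (cancel_mono (kernel.ι (P.map φ))).1 ?_
    simp only [Category.assoc, PreservesKernel.iso_hom, kernelComparison_comp_ι, kernel.lift_ι]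
    have h1 : germ ξ (kernel φ) V x ≫ P.map (kernel.ι φ) = S.map (kernel.ι φ) ≫ germ ξ F V x :=
      (Scheme.pointSmallEtale ξ).toPresheafFiber_naturality (kernel.ι φ).hom V x
    rw [h1, ← Category.assoc (PreservesKernel.iso S φ).inv, PreservesKernel.iso_inv_ι,
      ← Category.assoc, kernel.lift_ι, Category.assoc]
  haveI : IsIso (kernel.map h (P.map φ) (c ≫ germ ξ F V x) (d ≫ germ ξ G V x) eq) :=
    (kernel.mapIso h (P.map φ) (asIso (c ≫ germ ξ F V x)) (asIso (d ≫ germ ξ G V x)) eq).isIso_hom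
  rw [← key] at this
  exact IsIso.of_isIso_comp_right _ (PreservesKernel.iso P φ).hom

theorem exists_cokernel {F G : Sheaf X.smallEtaleTopology A} (φ : F ⟶ G) {V : X.Etale} {M N : A}
    {c : M ⟶ F.obj.obj (op V)} (hc : IsConstOn F V c) {d : N ⟶ G.obj.obj (op V)}
    (hd : IsConstOn G V d) (h : M ⟶ N) (e : c ≫ φ.hom.app (op V) = h ≫ d) :
    ∃ k : cokernel h ⟶ (cokernel φ).obj.obj (op V), IsConstOn (cokernel φ) V k := by
  have h0 : h ≫ d ≫ (cokernel.π φ).hom.app (op V) = 0 := by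
    rw [← Category.assoc, ← e, Category.assoc, ← NatTrans.comp_app,
      ← ObjectProperty.FullSubcategory.comp_hom, cokernel.condition]
    exact comp_zero
  refine ⟨cokernel.desc h (d ≫ (cokernel.π φ).hom.app (op V)) h0, fun Ω _ _ ξ x => ?_⟩
  haveI := hc Ω ξ x
  haveI := hd Ω ξ x
  let P := (Scheme.pointSmallEtale ξ).sheafFiber (A := A)
  have eq : h ≫ (d ≫ germ ξ G V x) = (c ≫ germ ξ F V x) ≫ P.map φ := by
    rw [← Category.assoc, ← e, Category.assoc, Category.assoc]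
    exact congrArg (c ≫ ·) ((Scheme.pointSmallEtale ξ).toPresheafFiber_naturality φ.hom V x).symm
  have key : (cokernel.desc h (d ≫ (cokernel.π φ).hom.app (op V)) h0 ≫
      germ ξ (cokernel φ) V x) ≫ (PreservesCokernel.iso P φ).hom =
        cokernel.map h (P.map φ) (c ≫ germ ξ F V x) (d ≫ germ ξ G V x) eq := by
    refine (cancel_epi (cokernel.π h)).1 ?_
    simp only [cokernel.π_desc_assoc, cokernel.π_desc, Category.assoc]
    refine congrArg (d ≫ ·) ?_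
    rw [← Category.assoc, ← PreservesCokernel.π_iso_hom, ← Category.assoc]
    exact congrArg (· ≫ _) ((Scheme.pointSmallEtale ξ).toPresheafFiber_naturality (cokernel.π φ).hom V x).symm
  haveI : IsIso (cokernel.map h (P.map φ) (c ≫ germ ξ F V x) (d ≫ germ ξ G V x) eq) :=
    (cokernel.mapIso h (P.map φ) (asIso (c ≫ germ ξ F V x)) (asIso (d ≫ germ ξ G V x)) eq).isIso_hom
  rw [← key] at this
  exact IsIso.of_isIso_comp_right _ (PreservesCokernel.iso P φ).hom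

section

variable {FA : A → A → Type*} {CA : A → Type (u + 1)} [∀ P Q, FunLike (FA P Q) (CA P) (CA Q)]
  [hA : ConcreteCategory.{u + 1} A FA] [PreservesFilteredColimitsOfSize.{u, u} (CategoryTheory.forget A)]
  [X.smallEtaleTopology.HasSheafCompose (CategoryTheory.forget A)]

theorem exists_extension {S : ShortComplex (Sheaf X.smallEtaleTopology A)} (hS : S.ShortExact)
    {Ω : Type u} [Field Ω] [IsSepClosed Ω] (ξ : Spec (CommRingCat.of Ω) ⟶ X) {V : X.Etale}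
    (z : (Scheme.pointSmallEtale ξ).fiber.obj V) {M₁ M₃ : A}
    {c₁ : M₁ ⟶ S.X₁.obj.obj (op V)} (h₁ : IsConstOn S.X₁ V c₁)
    {c₃ : M₃ ⟶ S.X₃.obj.obj (op V)} (h₃ : IsConstOn S.X₃ V c₃) (hM₁ : FG M₁)
    (hM₂ : FG ((Scheme.pointSmallEtale ξ).sheafFiber.obj S.X₂))
    (hlift : ∃ (W : X.Etale) (g : W ⟶ V) (w : (Scheme.pointSmallEtale ξ).fiber.obj W),
      (Scheme.pointSmallEtale ξ).fiber.map g w = z ∧
        ∃ c : (Scheme.pointSmallEtale ξ).sheafFiber.obj S.X₂ ⟶ S.X₂.obj.obj (op W),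
          c ≫ germ ξ S.X₂ W w = 𝟙 _) :
    ∃ (W : X.Etale) (w : (Scheme.pointSmallEtale ξ).fiber.obj W)
      (c : (Scheme.pointSmallEtale ξ).sheafFiber.obj S.X₂ ⟶ S.X₂.obj.obj (op W)),
        IsConstOn S.X₂ W c := by
  let P := (Scheme.pointSmallEtale ξ).sheafFiber (A := A)
  obtain ⟨W, g, w, -, c₂, hc₂⟩ := hlift
  have h₁' := h₁.res g
  have h₃' := h₃.res g
  haveI := h₁'.isIso ξ w
  haveI := h₃'.isIso ξ w
  let α : M₁ ⟶ P.obj S.X₂ := ((c₁ ≫ S.X₁.obj.map g.op) ≫ germ ξ S.X₁ W w) ≫ P.map S.f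
  let β : P.obj S.X₂ ⟶ M₃ := P.map S.g ≫ inv ((c₃ ≫ S.X₃.obj.map g.op) ≫ germ ξ S.X₃ W w)
  have nat : ∀ {F G : Sheaf X.smallEtaleTopology A} (φ : F ⟶ G) (W' : X.Etale) (Ω' : Type u) [Field Ω']
      [IsSepClosed Ω'] (η : Spec (CommRingCat.of Ω') ⟶ X) (y : (Scheme.pointSmallEtale η).fiber.obj W'),
      germ η F W' y ≫ (Scheme.pointSmallEtale η).sheafFiber.map φ = φ.hom.app (op W') ≫ germ η G W' y :=
    fun φ W' Ω' _ _ η y => (Scheme.pointSmallEtale η).toPresheafFiber_naturality φ.hom W' y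
  obtain ⟨W₁, g₁, w₁, hw₁, e₁⟩ := exists_hom_eq ξ hM₁ w
    ((c₁ ≫ S.X₁.obj.map g.op) ≫ S.f.hom.app (op W)) (α ≫ c₂) (by
      simp only [Category.assoc, hc₂, Category.comp_id, α]
      refine congrArg (fun k => c₁ ≫ S.X₁.obj.map g.op ≫ k) ?_
      exact ((nat S.f W Ω ξ w).symm).trans (by simp [P]))
  obtain ⟨W₂, g₂, w₂, hw₂, e₂⟩ := exists_hom_eq ξ hM₂ w₁
    ((c₂ ≫ S.X₂.obj.map g₁.op) ≫ S.g.hom.app (op W₁))
    (β ≫ (c₃ ≫ S.X₃.obj.map g.op) ≫ S.X₃.obj.map g₁.op) (by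
      have hc₂' : (c₂ ≫ S.X₂.obj.map g₁.op) ≫ germ ξ S.X₂ W₁ w₁ = 𝟙 _ := by
        rw [Category.assoc]
        refine Eq.trans (congrArg (c₂ ≫ ·) ?_) hc₂
        exact ((Scheme.pointSmallEtale ξ).toPresheafFiber_w g₁ w₁ S.X₂.obj).trans
          (congrArg (fun v => germ ξ S.X₂ W v) hw₁)
      have hc₃' : ((c₃ ≫ S.X₃.obj.map g.op) ≫ S.X₃.obj.map g₁.op) ≫ germ ξ S.X₃ W₁ w₁ =
          (c₃ ≫ S.X₃.obj.map g.op) ≫ germ ξ S.X₃ W w := by
        rw [Category.assoc]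
        exact congrArg (_ ≫ ·) (((Scheme.pointSmallEtale ξ).toPresheafFiber_w g₁ w₁ S.X₃.obj).trans
          (congrArg (fun v => germ ξ S.X₃ W v) hw₁))
      rw [Category.assoc, ← nat S.g W₁ Ω ξ w₁, ← Category.assoc, hc₂', Category.id_comp,
        Category.assoc β, hc₃', Category.assoc, IsIso.inv_hom_id, Category.comp_id])
  let d₁ := ((c₁ ≫ S.X₁.obj.map g.op) ≫ S.X₁.obj.map g₁.op) ≫ S.X₁.obj.map g₂.op
  let d₂ := (c₂ ≫ S.X₂.obj.map g₁.op) ≫ S.X₂.obj.map g₂.op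
  let d₃ := ((c₃ ≫ S.X₃.obj.map g.op) ≫ S.X₃.obj.map g₁.op) ≫ S.X₃.obj.map g₂.op
  have hd₁ : IsConstOn S.X₁ W₂ d₁ := (h₁'.res g₁).res g₂
  have hd₃ : IsConstOn S.X₃ W₂ d₃ := (h₃'.res g₁).res g₂
  have f₁ : d₁ ≫ S.f.hom.app (op W₂) = α ≫ d₂ := by
    simp only [d₁, d₂, Category.assoc] at e₁ ⊢
    rw [S.f.hom.naturality, S.f.hom.naturality_assoc, ← Category.assoc (S.f.hom.app (op W))]
    simpa only [Category.assoc] using congrArg (· ≫ S.X₂.obj.map g₂.op) e₁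
  have f₂ : d₂ ≫ S.g.hom.app (op W₂) = β ≫ d₃ := by
    simp only [d₃, d₂, Category.assoc] at e₂ ⊢
    rw [S.g.hom.naturality, e₂]
  have hd₂ : d₂ ≫ germ ξ S.X₂ W₂ w₂ = 𝟙 _ := by
    simp only [d₂, Category.assoc, germ]
    rw [GrothendieckTopology.Point.toPresheafFiber_w, hw₂,
      GrothendieckTopology.Point.toPresheafFiber_w (Φ := Scheme.pointSmallEtale ξ) g₁ w₁ S.X₂.obj, hw₁]
    exact hc₂
  have hαβ : α ≫ β = 0 := by
    simp only [α, β, Category.assoc]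
    rw [← Category.assoc (P.map S.f), ← P.map_comp, S.zero, P.map_zero]
    simp
  let T : ShortComplex A := ShortComplex.mk α β hαβ
  have hhom : ∀ (Ω' : Type u) [Field Ω'] [IsSepClosed Ω'] (η : Spec (CommRingCat.of Ω') ⟶ X)
      (y : (Scheme.pointSmallEtale η).fiber.obj W₂),
      ∃ φ : T ⟶ S.map ((Scheme.pointSmallEtale η).sheafFiber (A := A)),
        φ.τ₁ = d₁ ≫ germ η S.X₁ W₂ y ∧ φ.τ₂ = d₂ ≫ germ η S.X₂ W₂ y ∧
        φ.τ₃ = d₃ ≫ germ η S.X₃ W₂ y := by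
    intro Ω' _ _ η y
    refine ⟨{ τ₁ := d₁ ≫ germ η S.X₁ W₂ y, τ₂ := d₂ ≫ germ η S.X₂ W₂ y,
              τ₃ := d₃ ≫ germ η S.X₃ W₂ y, comm₁₂ := ?_, comm₂₃ := ?_ }, rfl, rfl, rfl⟩
    · change (d₁ ≫ germ η S.X₁ W₂ y) ≫ (Scheme.pointSmallEtale η).sheafFiber.map S.f = α ≫ d₂ ≫ _
      rw [Category.assoc, nat, ← Category.assoc, f₁, Category.assoc]
    · change (d₂ ≫ germ η S.X₂ W₂ y) ≫ (Scheme.pointSmallEtale η).sheafFiber.map S.g = β ≫ d₃ ≫ _
      rw [Category.assoc, nat, ← Category.assoc, f₂, Category.assoc]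
  have hT : T.ShortExact := by
    obtain ⟨φ, e₁', e₂', e₃'⟩ := hhom Ω ξ w₂
    haveI : IsIso φ.τ₁ := by rw [e₁']; exact hd₁ Ω ξ w₂
    haveI : IsIso φ.τ₂ := by rw [e₂', hd₂]; exact IsIso.id _
    haveI : IsIso φ.τ₃ := by rw [e₃']; exact hd₃ Ω ξ w₂
    haveI := ShortComplex.isIso_of_isIso φ
    exact (ShortComplex.shortExact_iff_of_iso (asIso φ)).2 (hS.map_of_exact _)
  refine ⟨W₂, w₂, d₂, fun Ω' _ _ η y => ?_⟩
  obtain ⟨φ, e₁', e₂', e₃'⟩ := hhom Ω' η y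
  haveI : IsIso φ.τ₁ := by rw [e₁']; exact hd₁ Ω' η y
  haveI : IsIso φ.τ₃ := by rw [e₃']; exact hd₃ Ω' η y
  rw [← e₂']
  exact ShortComplex.isIso₂_of_shortExact_of_isIso₁₃ φ hT (hS.map_of_exact _)

end

end Groth.Agent.H18Et.LC
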