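import Groth.Agent.H18Et.SitePoints
import Groth.Agent.H18Et.LC.Wrap
import Mathlib.AlgebraicGeometry.Morphisms.UniversallyOpen

/-!
# Specialisation morphisms between geometric points
-/

set_option backward.isDefEq.respectTransparency false
set_option backward.isDefEq.respectTransparency.types false

universe u

open CategoryTheory CategoryTheory.Limits AlgebraicGeometry Opposite

namespace Groth.Agent.H18Et.LC

open scoped Groth.Agent.H18Et

variable {S : Scheme.{u}} {Ω Ω' : Type u} [Field Ω] [IsSepClosed Ω] [Field Ω'] [IsSepClosed Ω']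

theorem ptOf_base {ξ : Spec (CommRingCat.of Ω) ⟶ S} {U : S.Etale}
    (t : (Scheme.pointSmallEtale ξ).fiber.obj U) : U.hom.base (ptOf t) = ξ.base default :=
  (Scheme.pointSmallEtaleFiberObjToPreimage ξ rfl t).2

/-- A geometric point has finitely many lifts to an affine open of an etale scheme over an affine open. -/
theorem finite_fiber_mem (ξ : Spec (CommRingCat.of Ω) ⟶ S) {U : S.Etale} (V : U.left.Opens)
    (hV : IsAffineOpen V) (O : S.Opens) (hO : IsAffineOpen O) (hVO : V ≤ U.hom ⁻¹ᵁ O) :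
    Finite {t : (Scheme.pointSmallEtale ξ).fiber.obj U // ptOf t ∈ V} := by
  by_cases hne : Nonempty {t : (Scheme.pointSmallEtale ξ).fiber.obj U // ptOf t ∈ V}
  swap
  · exact @Finite.of_subsingleton _ ⟨fun t => (hne ⟨t⟩).elim⟩
  obtain ⟨t₁, ht₁⟩ := hne
  haveI hss : Subsingleton ↥(Spec (CommRingCat.of Ω)) := inferInstanceAs (Subsingleton (PrimeSpectrum _))
  have hxO : ξ default ∈ O := (ptOf_base t₁) ▸ hVO ht₁
  haveI : IsAffine (V : Scheme.{u}) := hV
  haveI : IsAffine (O : Scheme.{u}) := hO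
  haveI : Etale U.hom := U.prop
  let a : (V : Scheme.{u}) ⟶ O := IsOpenImmersion.lift O.ι (V.ι ≫ U.hom) (by
    rw [Scheme.Opens.range_ι]
    rintro _ ⟨y, rfl⟩
    exact hVO y.2)
  let b : Spec (CommRingCat.of Ω) ⟶ O :=
    IsOpenImmersion.lift O.ι ξ (by
      rw [Scheme.Opens.range_ι]
      rintro _ ⟨y, rfl⟩
      rw [Subsingleton.elim y default]
      exact hxO)
  haveI : Etale (a ≫ O.ι) := by rw [IsOpenImmersion.lift_fac]; infer_instance
  haveI : Etale a := Etale.of_comp a O.ι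
  let π := pullback.snd a b
  haveI : LocallyQuasiFinite π :=
    ((Groth.Agent.H06Unram.etale_iff_smooth_and_locallyQuasiFinite π).mp inferInstance).2
  haveI : IsAffineHom a := isAffineHom_of_isAffine a
  haveI : IsAffineHom π := MorphismProperty.pullback_snd (P := @IsAffineHom) a b inferInstance
  haveI : Finite ↥(pullback a b) := by
    refine Set.finite_univ_iff.mp ((π.finite_preimage_singleton default).subset fun y _ => ?_)
    exact Subsingleton.elim _ _
  have hr : ∀ t : {t : (Scheme.pointSmallEtale ξ).fiber.obj U // ptOf t ∈ V},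
      Set.range t.1.left ⊆ Set.range V.ι := by
    rintro ⟨t, ht⟩ _ ⟨c, rfl⟩
    rw [Scheme.Opens.range_ι, show c = (default : ↥(Spec (CommRingCat.of Ω))) from Subsingleton.elim (α := ↥(Spec (CommRingCat.of Ω))) c default]
    exact ht
  let l := fun t => pullback.lift (f := a) (g := b)
    (IsOpenImmersion.lift V.ι t.1.left (hr t)) (𝟙 _) (by
      rw [← cancel_mono O.ι, Category.assoc, IsOpenImmersion.lift_fac, Category.id_comp,
        IsOpenImmersion.lift_fac, ← Category.assoc, IsOpenImmersion.lift_fac]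
      exact Over.w t.1)
  let o : ↥(Spec (CommRingCat.of Ω)) := default
  refine Finite.of_injective (fun t => l t o) fun t t' e => ?_
  have h1 := SitePoints.section_eq π (pullback.lift_snd _ _ _) (pullback.lift_snd _ _ _) o e
  refine Subtype.ext (Over.OverMorphism.ext ?_)
  rw [← IsOpenImmersion.lift_fac V.ι t.1.left (hr t),
    ← IsOpenImmersion.lift_fac V.ι t'.1.left (hr t')]
  have h2 := congrArg (fun c => c ≫ pullback.fst a b) h1
  simp only [l, pullback.lift_fst] at h2
  rw [h2]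

variable (ξ : Spec (CommRingCat.of Ω) ⟶ S) (ξ' : Spec (CommRingCat.of Ω') ⟶ S)

/-- The lifts of a geometric point that specialise to given lifts of another one. -/
noncomputable def genSystem : (Scheme.pointSmallEtale ξ).fiber.Elements ⥤ Type u where
  obj e := {t : (Scheme.pointSmallEtale ξ').fiber.obj e.1 // ptOf t ⤳ ptOf e.2}
  map {e e'} g := ↾(fun t => ⟨(Scheme.pointSmallEtale ξ').fiber.map g.1 t.1, by
    have h : g.1.left.base (ptOf e.2) = ptOf e'.2 := (ptOf_map g.1 e.2).trans (congrArg ptOf g.2)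
    rw [← ptOf_map, ← h]
    exact t.2.map g.1.left.continuous⟩)
  map_id e := by
    ext t
    exact congrArg (fun f => f t.1) ((Scheme.pointSmallEtale ξ').fiber.map_id e.1)
  map_comp f g := by
    ext t
    exact congrArg (fun k => k t.1) ((Scheme.pointSmallEtale ξ').fiber.map_comp f.1 g.1)

/-- A specialisation of points lifts to a morphism of the geometric points of the etale site. -/
theorem exists_specialization (h : ξ'.base default ⤳ ξ.base default) :
    Nonempty (Scheme.pointSmallEtale ξ' ⟶ Scheme.pointSmallEtale ξ) := by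
  haveI : ∀ e, Finite ((genSystem ξ ξ').obj e) := fun e => by
    obtain ⟨O, hO, hxO, -⟩ := exists_isAffineOpen_mem_and_subset (x := e.1.hom.base (ptOf e.2))
      (U := ⊤) trivial
    obtain ⟨V, hV, hz, hVO⟩ := exists_isAffineOpen_mem_and_subset (X := e.1.left) (x := ptOf e.2)
      (U := e.1.hom ⁻¹ᵁ O) hxO
    haveI := finite_fiber_mem ξ' V hV O hO hVO
    exact Finite.of_injective
      (fun t : (genSystem ξ ξ').obj e => (⟨t.1, t.2.mem_open V.2 hz⟩ : {t // ptOf t ∈ V}))
      fun t t' ht => Subtype.ext (congrArg (fun q => q.1) ht)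
  haveI : ∀ e, Nonempty ((genSystem ξ ξ').obj e) := fun e => by
    haveI : Etale e.1.hom := e.1.prop
    obtain ⟨z, hz, hzy⟩ := Flat.generalizingMap e.1.hom (ptOf_base e.2 ▸ h :
      ξ'.base default ⤳ e.1.hom.base (ptOf e.2))
    obtain ⟨t, ht⟩ := exists_fiber_over z ξ' hzy.symm
    exact ⟨⟨t, ht.symm ▸ hz⟩⟩
  obtain ⟨s, hs⟩ := nonempty_sections_of_finite_cofiltered_system (genSystem ξ ξ')
  refine ⟨⟨{ app := fun U => ↾(fun u => (s ⟨U, u⟩).1), naturality := fun U W g => ?_ }⟩⟩
  ext u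
  exact (congrArg Subtype.val (hs (CategoryOfElements.homMk (F := (Scheme.pointSmallEtale ξ).fiber)
    ⟨U, u⟩ ⟨W, (Scheme.pointSmallEtale ξ).fiber.map g u⟩ g rfl))).symm

theorem exists_specialization_comp {V : S.Etale} (a : Spec (CommRingCat.of Ω) ⟶ V.left)
    (a' : Spec (CommRingCat.of Ω') ⟶ V.left) (h : a'.base default ⤳ a.base default) :
    ∃ φ : Scheme.pointSmallEtale (a' ≫ V.hom) ⟶ Scheme.pointSmallEtale (a ≫ V.hom),
      ∀ (z : (Scheme.pointSmallEtale (a ≫ V.hom)).fiber.obj V), z.left = a →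
        (φ.hom.app V z).left = a' := by
  obtain ⟨φ⟩ := exists_specialization a a' h
  refine ⟨⟨(fiberCompIso V.hom a).inv ≫ Functor.whiskerLeft (EtCoh.bc V.hom) φ.hom ≫
    (fiberCompIso V.hom a').hom⟩, fun z hz => ?_⟩
  let δ : EtCoh.top V.left ⟶ (EtCoh.bc V.hom).obj V :=
    MorphismProperty.Over.homMk (pullback.lift (𝟙 V.left) (𝟙 V.left) rfl)
      (pullback.lift_snd _ _ _) trivial
  let e : (Scheme.pointSmallEtale a).fiber.obj (EtCoh.top V.left) := Over.homMk a (Category.comp_id a)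
  have h1 : (fiberCompIso V.hom a).inv.app V z = (Scheme.pointSmallEtale a).fiber.map δ e := by
    refine Over.OverMorphism.ext ?_
    refine pullback.hom_ext ?_ ?_
    · simp [fiberCompIso, δ, e, hz, Scheme.pointSmallEtale, Over.pullback, Over.mapPullbackAdj]
      exact ((congrArg (a ≫ ·) (pullback.lift_fst _ _ _)).trans (Category.comp_id a)).symm
    · simp [fiberCompIso, δ, e, hz, Scheme.pointSmallEtale, Over.pullback, Over.mapPullbackAdj]
      exact ((congrArg (a ≫ ·) (pullback.lift_snd _ _ _)).trans (Category.comp_id a)).symm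
  have h2 : (φ.hom.app (EtCoh.top V.left) e).left = a' :=
    (Category.comp_id _).symm.trans (Over.w (φ.hom.app (EtCoh.top V.left) e))
  have h3 : φ.hom.app ((EtCoh.bc V.hom).obj V) ((fiberCompIso V.hom a).inv.app V z) =
      (Scheme.pointSmallEtale a').fiber.map δ (φ.hom.app (EtCoh.top V.left) e) := by
    rw [h1]
    exact ConcreteCategory.congr_hom (φ.hom.naturality δ) e
  change ((fiberCompIso V.hom a').hom.app V (φ.hom.app ((EtCoh.bc V.hom).obj V)
    ((fiberCompIso V.hom a).inv.app V z))).left = a'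
  rw [h3]
  change ((φ.hom.app (EtCoh.top V.left) e).left ≫ pullback.lift (𝟙 V.left) (𝟙 V.left) rfl) ≫
    pullback.fst V.hom V.hom = a'
  exact (Category.assoc _ _ _).trans
    (((congrArg (_ ≫ ·) (pullback.lift_fst _ _ _)).trans (Category.comp_id _)).trans h2)

/-- A specialisation with prescribed lifts to an etale scheme. -/
theorem exists_specialization_lift {ξ : Spec (CommRingCat.of Ω) ⟶ S} {ξ' : Spec (CommRingCat.of Ω') ⟶ S}
    {V : S.Etale} (z : (Scheme.pointSmallEtale ξ).fiber.obj V)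
    (z' : (Scheme.pointSmallEtale ξ').fiber.obj V) (h : ptOf z' ⤳ ptOf z) :
    ∃ φ : Scheme.pointSmallEtale ξ' ⟶ Scheme.pointSmallEtale ξ, φ.hom.app V z = z' := by
  obtain ⟨a, ha⟩ : ∃ a : Spec (CommRingCat.of Ω) ⟶ V.left, z.left = a := ⟨_, rfl⟩
  obtain ⟨a', ha'⟩ : ∃ a' : Spec (CommRingCat.of Ω') ⟶ V.left, z'.left = a' := ⟨_, rfl⟩
  obtain rfl : ξ = a ≫ V.hom := ha ▸ (Over.w z).symm
  obtain rfl : ξ' = a' ≫ V.hom := ha' ▸ (Over.w z').symm
  obtain ⟨φ, hφ⟩ := exists_specialization_comp a a' (by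
    have e1 : a.base default = ptOf z := (congrArg (fun k : Spec (CommRingCat.of Ω) ⟶ V.left => k.base default) ha).symm
    have e2 : a'.base default = ptOf z' := (congrArg (fun k : Spec (CommRingCat.of Ω') ⟶ V.left => k.base default) ha').symm
    exact e1.symm ▸ e2.symm ▸ h)
  exact ⟨φ, Over.OverMorphism.ext ((hφ z ha).trans ha'.symm)⟩

section Generic

variable {A : Type (u + 2)} [Category.{u + 1} A] [HasColimitsOfSize.{u, u} A]

theorem germ_sheafFiber_hom {ξ : Spec (CommRingCat.of Ω) ⟶ S} {ξ' : Spec (CommRingCat.of Ω') ⟶ S}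
    (φ : Scheme.pointSmallEtale ξ' ⟶ Scheme.pointSmallEtale ξ) (F : Sheaf S.smallEtaleTopology A)
    (U : S.Etale) (x : (Scheme.pointSmallEtale ξ).fiber.obj U) :
    germ ξ F U x ≫ (GrothendieckTopology.Point.Hom.sheafFiber (A := A) φ).app F =
      germ ξ' F U (φ.hom.app U x) := by
  exact (Scheme.pointSmallEtale ξ).toPresheafFiber_presheafFiberDesc (P := F.obj)
    (fun X x => (Scheme.pointSmallEtale ξ').toPresheafFiber X (φ.hom.app X x) F.obj)
    (fun X Y g x => by
      simp [GrothendieckTopology.Point.toPresheafFiber_w,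
        ← ConcreteCategory.congr_hom (φ.hom.naturality g) x]) U x

theorem IsConstOn.isIso_specialization {F : Sheaf S.smallEtaleTopology A} {U : S.Etale} {M : A}
    {c : M ⟶ F.obj.obj (op U)} (h : IsConstOn F U c) {ξ : Spec (CommRingCat.of Ω) ⟶ S}
    {ξ' : Spec (CommRingCat.of Ω') ⟶ S}
    (φ : Scheme.pointSmallEtale ξ' ⟶ Scheme.pointSmallEtale ξ)
    (x : (Scheme.pointSmallEtale ξ).fiber.obj U) :
    IsIso ((GrothendieckTopology.Point.Hom.sheafFiber (A := A) φ).app F) := by
  haveI := h Ω ξ x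
  haveI := h Ω' ξ' (φ.hom.app U x)
  have e : (c ≫ germ ξ F U x) ≫ (GrothendieckTopology.Point.Hom.sheafFiber (A := A) φ).app F =
      c ≫ germ ξ' F U (φ.hom.app U x) := by
    rw [Category.assoc, germ_sheafFiber_hom]
  exact IsIso.of_isIso_fac_left e

theorem isIso_germ_of_specialization {F : Sheaf S.smallEtaleTopology A} {U : S.Etale} {M : A}
    (c : M ⟶ F.obj.obj (op U)) {ξ : Spec (CommRingCat.of Ω) ⟶ S}
    {ξ' : Spec (CommRingCat.of Ω') ⟶ S}
    (φ : Scheme.pointSmallEtale ξ' ⟶ Scheme.pointSmallEtale ξ)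
    [IsIso ((GrothendieckTopology.Point.Hom.sheafFiber (A := A) φ).app F)]
    (x : (Scheme.pointSmallEtale ξ).fiber.obj U) :
    IsIso (c ≫ germ ξ F U x) ↔ IsIso (c ≫ germ ξ' F U (φ.hom.app U x)) := by
  rw [← germ_sheafFiber_hom φ F U x, ← Category.assoc]
  exact ⟨fun h => inferInstance, fun h => IsIso.of_isIso_comp_right _
    ((GrothendieckTopology.Point.Hom.sheafFiber (A := A) φ).app F)⟩

theorem isConstOn_of_generization {F : Sheaf S.smallEtaleTopology A} {U : S.Etale} {M : A}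
    (c : M ⟶ F.obj.obj (op U)) {ξ : Spec (CommRingCat.of Ω) ⟶ S}
    (z : (Scheme.pointSmallEtale ξ).fiber.obj U) (hz : IsIso (c ≫ germ ξ F U z))
    (hspec : ∀ (Ω₁ Ω₂ : Type u) [Field Ω₁] [IsSepClosed Ω₁] [Field Ω₂] [IsSepClosed Ω₂]
      (ξ₁ : Spec (CommRingCat.of Ω₁) ⟶ S) (ξ₂ : Spec (CommRingCat.of Ω₂) ⟶ S)
      (φ : Scheme.pointSmallEtale ξ₂ ⟶ Scheme.pointSmallEtale ξ₁),
      IsIso ((GrothendieckTopology.Point.Hom.sheafFiber (A := A) φ).app F))
    (hconn : ∀ w : U.left, ∃ η : U.left, η ⤳ w ∧ η ⤳ ptOf z) : IsConstOn F U c := by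
  intro Ω₁ _ _ ξ₁ t
  obtain ⟨η, hηt, hηz⟩ := hconn (ptOf t)
  obtain ⟨e, he⟩ := exists_fiber_over η (geomPt (U.hom.base η)) (geomPt_base _)
  obtain ⟨φ₁, h₁⟩ := exists_specialization_lift z e (he.symm ▸ hηz)
  obtain ⟨φ₂, h₂⟩ := exists_specialization_lift t e (he.symm ▸ hηt)
  haveI := hspec _ _ _ _ φ₁
  haveI := hspec _ _ _ _ φ₂
  have h3 := (isIso_germ_of_specialization c φ₁ z).1 hz
  rw [h₁, ← h₂] at h3
  exact (isIso_germ_of_specialization c φ₂ t).2 h3

end Generic

end Groth.Agent.H18Et.LC
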